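import Groth.Agent.CohTop.Proper.Soft
import Groth.Agent.CohTop.Descent.TotExact

/-!
# Cohomology of compact subspaces as a limit over neighbourhoods, at the level of complexes

`exists_lift`, `exists_near`: for a flasque resolution on `X` mapping to a soft resolution on a
compact subspace with separated points, cocycles on the subspace come from cocycles near it, and
such a cocycle which becomes exact on the subspace is exact nearby.
-/

universe u

open CategoryTheory CategoryTheory.Limits Opposite TopologicalSpace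

namespace Groth.Agent.CohTop.Proper.Nbhd

open Groth.Agent.CohTop.Proper.Extend Groth.Agent.CohTop.Proper.Soft
  Groth.Agent.ModShf.AcyclicRes Groth.Agent.CohTop.Descent.Compute

variable {X Z : TopCat.{u}} (i : Z ⟶ X)

instance : PreservesFiniteColimits (CohTop.pull i) := by
  have : PreservesColimitsOfSize.{0, 0} (CohTop.pull i) :=
    (TopCat.Sheaf.pullbackPushforwardAdjunction AddCommGrpCat.{u} i).leftAdjoint_preservesColimits
  exact PreservesColimitsOfSize.preservesFiniteColimits (CohTop.pull i)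

instance : (CohTop.pull i).Additive := Functor.additive_of_preserves_binary_products _

variable {i}

/-- The inverse image of a resolution. -/
noncomputable def pullRes {F : CohTop.Ab X} (R : Res F) : Res ((CohTop.pull i).obj F) where
  K := ((CohTop.pull i).mapHomologicalComplex _).obj R.K
  ι := (HomologicalComplex.singleMapHomologicalComplex (CohTop.pull i) (ComplexShape.up ℕ) 0).inv.app F ≫
    ((CohTop.pull i).mapHomologicalComplex _).map R.ι
  qi := inferInstance

/-- Restriction of sections to the subspace. -/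
noncomputable def uniZ (G : CohTop.Ab X) (U : Opens X) (hU : ∀ z, i z ∈ U)
    (a : G.obj.obj (op U)) : ((CohTop.pull i).obj G).obj.obj (op ⊤) :=
  rs _ (fun z _ => hU z : (⊤ : Opens Z) ≤ (Opens.map i).obj U) (uni i G U a)

theorem gm_uniZ (G : CohTop.Ab X) (U : Opens X) (hU : ∀ z, i z ∈ U) (a : G.obj.obj (op U)) (z : Z)
    (hz : z ∈ (⊤ : Opens Z)) : gm _ (uniZ G U hU a) z hz = σi i G z (gm G a (i z) (hU z)) :=
  (gm_rs _ _ _ z hz).trans (σi_gm i G a z (hU z)).symm

theorem uniZ_rs (G : CohTop.Ab X) {U W : Opens X} (h : W ≤ U) (hU : ∀ z, i z ∈ U)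
    (hW : ∀ z, i z ∈ W) (a : G.obj.obj (op U)) : uniZ G W hW (rs G h a) = uniZ G U hU a :=
  TopCat.Presheaf.section_ext _ _ _ _ fun z hz =>
    (gm_uniZ G W hW _ z hz).trans ((congrArg (σi i G z) (gm_rs G h a (i z) (hW z))).trans
      (gm_uniZ G U hU a z hz).symm)

theorem uniZ_zero (G : CohTop.Ab X) (U : Opens X) (hU : ∀ z, i z ∈ U) : uniZ G U hU 0 = 0 := by
  exact (congrArg (rs _ _) (map_zero _)).trans (map_zero _)

theorem uniZ_nat {G G' : CohTop.Ab X} (ψ : G ⟶ G') (U : Opens X) (hU : ∀ z, i z ∈ U)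
    (a : G.obj.obj (op U)) :
    ((CohTop.pull i).map ψ).hom.app (op ⊤) (uniZ G U hU a) = uniZ G' U hU (ψ.hom.app (op U) a) := by
  have h := congrArg (fun φ => φ.hom.app (op U))
    ((TopCat.Sheaf.pullbackPushforwardAdjunction AddCommGrpCat.{u} i).unit.naturality ψ)
  refine (ConcreteCategory.congr_hom (((CohTop.pull i).map ψ).hom.naturality
    (homOfLE (fun z _ => hU z : (⊤ : Opens Z) ≤ (Opens.map i).obj U)).op) (uni i G U a)).trans ?_
  exact congrArg (rs _ _) (ConcreteCategory.congr_hom h a).symm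

variable [CompactSpace Z] (hind : Topology.IsInducing i) (hs : Sep i)
  {F : CohTop.Ab X} (R : Res F) (hR : ∀ n, TopCat.Sheaf.IsFlasque (R.K.X n))
  {L : Res ((CohTop.pull i).obj F)} (hL : ∀ n, IsSoft (L.K.X n))
  (φ : (pullRes (i := i) R).K ⟶ L.K) (hφ : (pullRes (i := i) R).ι ≫ φ = L.ι)

/-- The comparison on sections. -/
noncomputable def cmpU (n : ℕ) (U : Opens X) (hU : ∀ z, i z ∈ U)
    (y : (R.K.X n).obj.obj (op U)) : (L.K.X n).obj.obj (op ⊤) :=
  (φ.f n).hom.app (op ⊤) (uniZ (R.K.X n) U hU y)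

include hind hs hR hL hφ in
theorem quasiIso_comparison : QuasiIso (((Γt Z).mapHomologicalComplex _).map φ) := by
  have := hs.t2
  let J := injectiveResolution ((CohTop.pull i).obj F)
  let R' := pullRes (i := i) R
  have q₁ := quasiIso_map_desc (goodClass_soft (Z := Z)) R'
    (fun n => @isSoft_pull Z X i (R.K.X n) _ hind hs (hR n)) J
  have q₂ := quasiIso_map_desc (goodClass_soft (Z := Z)) L hL J
  obtain ⟨H⟩ := R'.nonempty_homotopy J (φ ≫ L.desc (𝟙 _) J) (R'.desc (𝟙 _) J) (by
    rw [← Category.assoc, hφ, L.ι_desc, R'.ι_desc])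
  have : QuasiIso (((Γt Z).mapHomologicalComplex _).map (φ ≫ L.desc (𝟙 _) J)) := by
    rw [quasiIso_iff]
    intro n
    rw [quasiIsoAt_iff_isIso_homologyMap, ((Γt Z).mapHomotopy H).homologyMap_eq]
    infer_instance
  rw [Functor.map_comp] at this
  exact quasiIso_of_comp_right _ (((Γt Z).mapHomologicalComplex _).map (L.desc (𝟙 _) J))

include hind hs hR hL hφ in
/-- Cocycles on the subspace come from cocycles near it. -/
theorem exists_lift (n : ℕ) (z : (L.K.X n).obj.obj (op ⊤))
    (hz : (L.K.d n (n + 1)).hom.app (op ⊤) z = 0) :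
    ∃ (U : Opens X) (hU : ∀ z, i z ∈ U) (y : (R.K.X n).obj.obj (op U)),
      (R.K.d n (n + 1)).hom.app (op U) y = 0 ∧
      ∃ w, (L.K.d ((ComplexShape.up ℕ).prev n) n).hom.app (op ⊤) w = cmpU R φ n U hU y - z := by
  let KZ := ((Γt Z).mapHomologicalComplex _).obj (pullRes (i := i) R).K
  let LZ := ((Γt Z).mapHomologicalComplex _).obj L.K
  let Φ : KZ ⟶ LZ := ((Γt Z).mapHomologicalComplex _).map φ
  have := quasiIso_comparison hind hs R hR hL φ hφ
  have hiso : IsIso (HomologicalComplex.homologyMap Φ n) :=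
    (quasiIsoAt_iff_isIso_homologyMap _ n).1 inferInstance
  obtain ⟨zc, hzc⟩ := Descent.TotExact.exists_cycles LZ (CochainComplex.next ℕ n) z hz
  obtain ⟨γ, hγ⟩ := ((ConcreteCategory.bijective_of_isIso (HomologicalComplex.homologyMap Φ n)).2
    (LZ.homologyπ n zc))
  obtain ⟨tc, rfl⟩ := Descent.TotExact.homologyπ_surjective KZ n γ
  rw [← ConcreteCategory.comp_apply, HomologicalComplex.homologyπ_naturality,
    ConcreteCategory.comp_apply, ← sub_eq_zero, ← map_sub,
    Descent.TotExact.homologyπ_eq_zero_iff LZ rfl] at hγ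
  obtain ⟨w, hw⟩ := hγ
  set t : KZ.X n := KZ.iCycles n tc with ht
  have htd : KZ.d n (n + 1) t = 0 := by
    rw [ht, ← ConcreteCategory.comp_apply, HomologicalComplex.iCycles_d]; rfl
  obtain ⟨U, hU, y, hy⟩ := exists_section_near i (R.K.X n) hind hs t
  obtain ⟨W, hWU, hWU₂, hW, eW⟩ := exists_eq_near_of_uni i (R.K.X (n + 1)) hU hU
    ((R.K.d n (n + 1)).hom.app (op U) y) 0 (by
      show uniZ (R.K.X (n + 1)) U hU _ = uniZ (R.K.X (n + 1)) U hU 0
      rw [uniZ_zero, ← uniZ_nat]
      exact (congrArg _ hy).trans htd)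
  refine ⟨W, hW, rs _ hWU y, ?_, w, ?_⟩
  · exact (ConcreteCategory.congr_hom ((R.K.d n (n + 1)).hom.naturality (homOfLE hWU).op) y).trans
      (eW.trans (map_zero _))
  · refine hw.trans ?_
    rw [map_sub, hzc, ← ConcreteCategory.comp_apply, HomologicalComplex.cyclesMap_i,
      ConcreteCategory.comp_apply, cmpU, uniZ_rs _ hWU hU hW]
    exact congrArg (fun s => (φ.f n).hom.app (op ⊤) s - z) hy.symm

include hind hs hR hL hφ in
/-- A cocycle near the subspace which is exact on it is exact nearby. -/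
theorem exists_near (n : ℕ) (U : Opens X) (hU : ∀ z, i z ∈ U)
    (y : (R.K.X n).obj.obj (op U)) (hy : (R.K.d n (n + 1)).hom.app (op U) y = 0)
    (w : (L.K.X ((ComplexShape.up ℕ).prev n)).obj.obj (op ⊤))
    (hw : (L.K.d _ n).hom.app (op ⊤) w = cmpU R φ n U hU y) :
    ∃ (U' : Opens X) (h : U' ≤ U) (_ : ∀ z, i z ∈ U')
      (v : (R.K.X ((ComplexShape.up ℕ).prev n)).obj.obj (op U')),
      (R.K.d _ n).hom.app (op U') v = rs _ h y := by
  let KZ := ((Γt Z).mapHomologicalComplex _).obj (pullRes (i := i) R).K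
  let LZ := ((Γt Z).mapHomologicalComplex _).obj L.K
  let Φ : KZ ⟶ LZ := ((Γt Z).mapHomologicalComplex _).map φ
  have := quasiIso_comparison hind hs R hR hL φ hφ
  have hiso : IsIso (HomologicalComplex.homologyMap Φ n) :=
    (quasiIsoAt_iff_isIso_homologyMap _ n).1 inferInstance
  set t : KZ.X n := uniZ (R.K.X n) U hU y
  have htd : KZ.d n (n + 1) t = 0 :=
    (uniZ_nat (R.K.d n (n + 1)) U hU y).trans
      ((congrArg (uniZ (R.K.X (n + 1)) U hU) hy).trans (uniZ_zero _ U hU))
  obtain ⟨tc, htc⟩ := Descent.TotExact.exists_cycles KZ (CochainComplex.next ℕ n) t htd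
  have h0 : KZ.homologyπ n tc = 0 := by
    apply (ConcreteCategory.bijective_of_isIso (HomologicalComplex.homologyMap Φ n)).1
    rw [map_zero, ← ConcreteCategory.comp_apply, HomologicalComplex.homologyπ_naturality,
      ConcreteCategory.comp_apply, Descent.TotExact.homologyπ_eq_zero_iff LZ rfl]
    refine ⟨w, hw.trans ?_⟩
    rw [← ConcreteCategory.comp_apply, HomologicalComplex.cyclesMap_i, ConcreteCategory.comp_apply,
      htc]
    rfl
  obtain ⟨s, hs'⟩ := (Descent.TotExact.homologyπ_eq_zero_iff KZ rfl tc).1 h0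
  rw [htc] at hs'
  obtain ⟨U₁, hU₁, v, hv⟩ := exists_section_near i (R.K.X ((ComplexShape.up ℕ).prev n)) hind hs s
  obtain ⟨W, hW₁, hW, hWz, eW⟩ := exists_eq_near_of_uni i (R.K.X n) hU₁ hU
    ((R.K.d _ n).hom.app (op U₁) v) y (by
      show uniZ (R.K.X n) U₁ hU₁ _ = uniZ (R.K.X n) U hU y
      rw [← uniZ_nat]
      exact (congrArg _ hv).trans hs')
  exact ⟨W, hW, hWz, rs _ hW₁ v,
    (ConcreteCategory.congr_hom ((R.K.d _ n).hom.naturality (homOfLE hW₁).op) v).trans eW⟩

end Groth.Agent.CohTop.Proper.Nbhd
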