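import Groth.Agent.CohTop.Proper.Descent
import Groth.Agent.CohTop.Descent.InvLocal

/-!
# The descent spectral sequence of a locally finite closed covering
-/

universe u

open CategoryTheory CategoryTheory.Limits Opposite TopologicalSpace

namespace Groth.Agent.CohTop.Proper.ClosedCover

open Groth.Agent.CohTop.Descent Groth.Agent.CohTop.Descent.Fam Groth.Agent.CohTop.Descent.Nerve

variable {S : TopCat.{u}} {I : Type u} (U : I → Set S)

/-- The disjoint union. -/
noncomputable abbrev cov : TopCat.of (Σ i, U i) ⟶ S :=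
  TopCat.ofHom ⟨fun z => z.2.1, continuous_sigma fun _ => continuous_subtype_val⟩

theorem cov_surjective (hcov : ⋃ i, U i = Set.univ) : Function.Surjective (cov U) := fun v => by
  obtain ⟨i, hi⟩ := Set.mem_iUnion.1 (hcov.symm ▸ Set.mem_univ v : v ∈ ⋃ i, U i)
  exact ⟨⟨i, v, hi⟩, rfl⟩

theorem isProperMap_cov (hU : ∀ i, IsClosed (U i)) (hlf : LocallyFinite U) :
    IsProperMap (cov U) := by
  refine isProperMap_iff_isClosedMap_and_compact_fibers.2 ⟨(cov U).hom.continuous, fun C hC => ?_,
    fun v => Set.Finite.isCompact ?_⟩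
  · have e : (cov U) '' C = ⋃ i, Subtype.val '' ((Sigma.mk (β := fun i => U i) i) ⁻¹' C) := by
      ext v
      simp [cov]
    rw [e]
    refine LocallyFinite.isClosed_iUnion (hlf.subset fun i => ?_) fun i => ?_
    · rintro v ⟨y, -, rfl⟩
      exact y.2
    · exact (hU i).isClosedEmbedding_subtypeVal.isClosedMap _ (hC.preimage continuous_sigmaMk)
  · refine Set.Finite.of_finite_image (f := Sigma.fst) ((hlf.point_finite v).subset ?_) ?_
    · rintro i ⟨z, hz, rfl⟩
      show v ∈ U z.1
      exact (show z.2.1 = v from hz) ▸ z.2.2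
    · rintro ⟨i, y⟩ hy ⟨j, y'⟩ hy' e
      obtain rfl : i = j := e
      exact Sigma.ext rfl (heq_of_eq (Subtype.ext (hy.trans hy'.symm)))

theorem sep_cov : ∀ z z' : (Σ i, U i), cov U z = cov U z' → z ≠ z' →
    ∃ A B : Set (Σ i, U i), IsOpen A ∧ IsOpen B ∧ z ∈ A ∧ z' ∈ B ∧ Disjoint A B := by
  rintro ⟨i, y⟩ ⟨j, y'⟩ e hne
  have hij : i ≠ j := by
    rintro rfl
    exact hne (Sigma.ext rfl (heq_of_eq (Subtype.ext e)))
  refine ⟨Set.range (Sigma.mk i), Set.range (Sigma.mk j), isOpen_range_sigmaMk, isOpen_range_sigmaMk,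
    ⟨y, rfl⟩, ⟨y', rfl⟩, ?_⟩
  rw [Set.disjoint_left]
  rintro z ⟨a, rfl⟩ ⟨b, hb⟩
  exact hij (congrArg Sigma.fst hb).symm

variable {p : ℕ} (σ : Fin (p + 1) → I)

/-- An intersection. -/
noncomputable abbrev V : Over S :=
  Over.mk (TopCat.ofHom ⟨((↑) : (⋂ k, U (σ k) : Set S) → S), continuous_subtype_val⟩ :
    TopCat.of (⋂ k, U (σ k) : Set S) ⟶ S)

/-- An intersection inside the fibre power. -/
noncomputable def inc : V U σ ⟶ N (cov U) p :=
  liftHom (cov U) (T := V U σ) (fun k =>
    (TopCat.ofHom ⟨fun y : (⋂ k, U (σ k) : Set S) => (⟨σ k, ⟨y.1, Set.mem_iInter.1 y.2 k⟩⟩ : Σ i, U i),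
      continuous_sigmaMk.comp (continuous_subtype_val.subtype_mk _)⟩ :
        TopCat.of (⋂ k, U (σ k) : Set S) ⟶ TopCat.of (Σ i, U i)))
    fun _ => rfl

theorem proj_inc (k : Fin (p + 1)) (y : (⋂ k, U (σ k) : Set S)) :
    proj (cov U) p k ((inc U σ).left y) = ⟨σ k, ⟨y.1, Set.mem_iInter.1 y.2 k⟩⟩ :=
  liftHom_proj_apply (cov U) _ _ k (T := V U σ) y

theorem hom_inc (y : (⋂ k, U (σ k) : Set S)) : (N (cov U) p).hom ((inc U σ).left y) = y.1 :=
  Base.over_w (inc U σ) y

theorem exists_inc (z : (N (cov U) p).left) :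
    ∃ (σ : Fin (p + 1) → I) (y : (⋂ k, U (σ k) : Set S)), (inc U σ).left y = z := by
  have h : ∀ k, (proj (cov U) p k z).2.1 = (N (cov U) p).hom z := fun k => f_proj (cov U) p k z
  refine ⟨fun k => (proj (cov U) p k z).1, ⟨(N (cov U) p).hom z,
    Set.mem_iInter.2 fun k => h k ▸ (proj (cov U) p k z).2.2⟩, ?_⟩
  refine point_ext (cov U) fun k => (proj_inc U _ k _).trans ?_
  exact Sigma.ext rfl (heq_of_eq (Subtype.ext (h k).symm))

theorem inc_eq {σ' : Fin (p + 1) → I} {y : (⋂ k, U (σ k) : Set S)} {y' : (⋂ k, U (σ' k) : Set S)}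
    (e : (inc U σ).left y = (inc U σ').left y') : σ = σ' :=
  funext fun k => congrArg Sigma.fst
    ((proj_inc U σ k y).symm.trans ((congrArg (proj (cov U) p k) e).trans (proj_inc U σ' k y')))

theorem isLocalHomeomorph_inc : IsLocalHomeomorph (inc U σ).left := by
  have he : Topology.IsEmbedding (inc U σ).left := by
    refine Topology.IsEmbedding.of_comp (inc U σ).left.hom.continuous
      (N (cov U) p).hom.hom.continuous ?_
    have : ((N (cov U) p).hom : _ → S) ∘ (inc U σ).left = Subtype.val := funext (hom_inc U σ)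
    rw [this]
    exact Topology.IsEmbedding.subtypeVal
  refine (Topology.IsOpenEmbedding.mk he ?_).isLocalHomeomorph
  have hr : Set.range (inc U σ).left =
      ⋂ k, proj (cov U) p k ⁻¹' Set.range (Sigma.mk (β := fun i => U i) (σ k)) := by
    ext z
    refine ⟨?_, fun hz => ?_⟩
    · rintro ⟨y, rfl⟩
      exact Set.mem_iInter.2 fun k => ⟨_, (proj_inc U σ k y).symm⟩
    · obtain ⟨σ', y, rfl⟩ := exists_inc U z
      obtain rfl : σ = σ' := funext fun k => by
        obtain ⟨a, ha⟩ := Set.mem_iInter.1 hz k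
        exact congrArg Sigma.fst (ha.trans (proj_inc U σ' k y))
      exact ⟨y, rfl⟩
  rw [hr]
  exact isOpen_iInter_of_finite fun k =>
    isOpen_range_sigmaMk.preimage (proj (cov U) p k).hom.continuous

variable (F : CohTop.Ab S) (p)

/-- Families of germs on the pieces come from a unique family on the whole. -/
theorem bijective_res (q : ℕ) :
    Function.Bijective fun (s : ((cx (Base.base F)).obj (op (N (cov U) p))).X q) =>
      fun σ : Fin (p + 1) → I => ((cx (Base.base F)).map (inc U σ).op).f q s := by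
  have hb : ∀ (σ : Fin (p + 1) → I) (y : (V U σ).left),
      Function.Bijective (sm (iter (Base.base F) q) (inc U σ) y) := fun σ y =>
    InvLocal.bijective_iter (inc U σ) F (isLocalHomeomorph_inc U σ) q y
  refine ⟨fun s t e => funext fun ⟨z, _⟩ => ?_, fun t => ?_⟩
  · obtain ⟨σ, y, rfl⟩ := exists_inc U z
    exact (hb σ y).1 (congrFun (congrFun e σ) ⟨y, trivial⟩)
  · choose g hg using fun z => exists_inc U (p := p) z
    choose y hy using hg
    let P : (N (cov U) p).left → Type u := fun z =>
      (TopCat.Presheaf.stalk (C := AddCommGrpCat.{u}) ((iter (Base.base F) q).P (N (cov U) p)) z : Type u)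
    let val : ∀ z : (N (cov U) p).left, P z :=
      fun z => cast (congrArg P (hy z)) ((hb (g z) (y z)).2 (t (g z) ⟨y z, trivial⟩)).choose
    refine ⟨fun z => val z.1, funext fun σ => funext fun ⟨w, _⟩ => ?_⟩
    have key : ∀ (z : (N (cov U) p).left) (e : (inc U σ).left w = z),
        sm (iter (Base.base F) q) (inc U σ) w (cast (congrArg P e.symm) (val z)) = t σ ⟨w, trivial⟩ := by
      intro z e
      obtain rfl : σ = g z := inc_eq U σ (e.trans (hy z).symm)
      obtain rfl : w = y z := Subtype.ext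
        ((hom_inc U (g z) w).symm.trans ((congrArg (N (cov U) p).hom (e.trans (hy z).symm)).trans
          (hom_inc U (g z) (y z))))
      have h := ((hb (g z) (y z)).2 (t (g z) ⟨y z, trivial⟩)).choose_spec
      refine Eq.trans (congrArg _ ?_) h
      exact cast_cast _ _ _ |>.trans (cast_eq _ _)
    exact key _ rfl

end Groth.Agent.CohTop.Proper.ClosedCover

namespace Groth.Agent.CohTop.Proper.ClosedCover

open Groth.Agent.CohTop.Descent

/-- Homology commutes with products of complexes of abelian groups. -/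
theorem bijective_homology {J : Type u} (L : CochainComplex AddCommGrpCat.{u} ℕ)
    (L' : J → CochainComplex AddCommGrpCat.{u} ℕ) (r : ∀ j, L ⟶ L' j)
    (hr : ∀ q, Function.Bijective fun (s : L.X q) j => (r j).f q s) (q : ℕ) :
    Function.Bijective fun (h : L.homology q) j => HomologicalComplex.homologyMap (r j) q h := by
  have hπ : ∀ j (c : L.cycles q), HomologicalComplex.homologyMap (r j) q (L.homologyπ q c) =
      (L' j).homologyπ q (HomologicalComplex.cyclesMap (r j) q c) := fun j c =>
    ConcreteCategory.congr_hom (HomologicalComplex.homologyπ_naturality (r j) q) c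
  have hi : ∀ j (c : L.cycles q), (L' j).iCycles q (HomologicalComplex.cyclesMap (r j) q c) =
      (r j).f q (L.iCycles q c) := fun j c =>
    ConcreteCategory.congr_hom (HomologicalComplex.cyclesMap_i (r j) q) c
  refine ⟨fun a b e => ?_, fun t => ?_⟩
  · obtain ⟨c, rfl⟩ := TotExact.homologyπ_surjective L q a
    obtain ⟨c', rfl⟩ := TotExact.homologyπ_surjective L q b
    rw [← sub_eq_zero, ← map_sub, TotExact.homologyπ_eq_zero_iff L rfl]
    have h : ∀ j, ∃ w, (L' j).d _ q w = (r j).f q (L.iCycles q (c - c')) := fun j => by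
      obtain ⟨w, hw⟩ := (TotExact.homologyπ_eq_zero_iff (L' j) rfl
        (HomologicalComplex.cyclesMap (r j) q (c - c'))).1 (by
        rw [map_sub, map_sub, sub_eq_zero, ← hπ, ← hπ]
        exact congrFun e j)
      exact ⟨w, hw.trans (hi j _)⟩
    choose w hw using h
    obtain ⟨v, hv⟩ := (hr _).2 w
    refine ⟨v, (hr q).1 (funext fun j => ?_)⟩
    refine (ConcreteCategory.congr_hom ((r j).comm _ q) v).symm.trans ?_
    exact (congrArg _ (congrFun hv j)).trans (hw j)
  · choose c hc using fun j => TotExact.homologyπ_surjective (L' j) q (t j)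
    obtain ⟨v, hv⟩ := (hr q).2 fun j => (L' j).iCycles q (c j)
    have hd : L.d q (q + 1) v = 0 := by
      refine (hr (q + 1)).1 (funext fun j => ?_)
      refine (ConcreteCategory.congr_hom ((r j).comm q (q + 1)) v).symm.trans ?_
      refine (congrArg _ (congrFun hv j)).trans ?_
      show (L' j).d q (q + 1) ((L' j).iCycles q (c j)) = (r j).f (q + 1) 0
      rw [← ConcreteCategory.comp_apply, HomologicalComplex.iCycles_d, map_zero]
      rfl
    obtain ⟨z, hz⟩ := TotExact.exists_cycles L (CochainComplex.next ℕ q) v hd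
    refine ⟨L.homologyπ q z, funext fun j => ?_⟩
    refine (hπ j z).trans ?_
    rw [← hc j]
    refine congrArg _ ((AddCommGrpCat.mono_iff_injective ((L' j).iCycles q)).1 inferInstance ?_)
    exact (hi j z).trans ((congrArg _ hz).trans (congrFun hv j))

variable {S : TopCat.{u}} {I : Type u} (U : I → Set S) (F : CohTop.Ab S) (p q : ℕ)

/-- Cohomology of a fibre power is the product over the intersections. -/
theorem nonempty_H_equiv :
    Nonempty (AddCommGrpCat.of (CohTop.H ((CohTop.pull (Nerve.N (cov U) p).hom).obj F) q) ≅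
      AddCommGrpCat.of (∀ σ : Fin (p + 1) → I, CohTop.H ((CohTop.pull (V U σ).hom).obj F) q)) := by
  obtain ⟨e₀⟩ := Compute.homology_cx_iso F (Nerve.N (cov U) p) q
  let e₁ := fun σ : Fin (p + 1) → I => (Compute.homology_cx_iso F (V U σ) q).some
  let r := fun σ : Fin (p + 1) → I => (Fam.cx (Base.base F)).map (inc U σ).op
  let m := AddEquiv.ofBijective (AddMonoidHom.mk'
    (fun (h : ((Fam.cx (Base.base F)).obj (op (Nerve.N (cov U) p))).homology q) σ =>
      HomologicalComplex.homologyMap (r σ) q h) fun _ _ => funext fun _ => map_add _ _ _)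
    (bijective_homology _ _ r (bijective_res U p F) q)
  exact ⟨(e₀.symm.addCommGroupIsoToAddEquiv.trans (m.trans
    (AddEquiv.piCongrRight fun σ => (e₁ σ).addCommGroupIsoToAddEquiv))).toAddCommGrpIso⟩

end Groth.Agent.CohTop.Proper.ClosedCover
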