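import Groth.Agent.CohTop.Proper.Resolution

/-!
# The descent spectral sequence of a proper surjection
-/

universe u

open CategoryTheory CategoryTheory.Limits Opposite TopologicalSpace Simplicial AlgebraicTopology

namespace Groth.Agent.CohTop.Proper.Descent

open Groth.Agent.CohTop.Descent Groth.Agent.CohTop.Descent.Fam Groth.Agent.CohTop.Descent.Nerve
  Groth.Agent.CohTop.Proper.PCx Groth.Agent.CohTop.Descent.AltCx
  Groth.Agent.CohTop.Proper.Resolution

variable {X S : TopCat.{u}} (f : X ⟶ S) (F : CohTop.Ab S)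

/-- Global sections of a column. -/
noncomputable def colIso (T : Over S) :
    ((Compute.Γt S).mapHomologicalComplex _).obj ((pcx (Base.base F)).obj (op T)) ≅
      (cx (Base.base F)).obj (op T) :=
  HomologicalComplex.Hom.isoOfComponents (fun _ => Iso.refl _) (by
    intro i j h
    obtain rfl : i + 1 = j := h
    refine (Category.id_comp _).trans (Eq.trans ?_ (Category.comp_id _).symm)
    rw [PCx.cx_d, Functor.mapHomologicalComplex_obj_d, PCx.pcx_d]
    rfl)

/-- The descent spectral sequence of a proper surjection with separated fibres. -/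
theorem exists_ss (hf : IsProperMap f)
    (hs : ∀ x x' : X, f x = f x' → x ≠ x' →
      ∃ U V : Set X, IsOpen U ∧ IsOpen V ∧ x ∈ U ∧ x' ∈ V ∧ Disjoint U V)
    (hsurj : Function.Surjective f) :
    ∃ (E : CohomologicalSpectralSequence AddCommGrpCat.{u} 1)
      (a : SpSeq.Abutment E (fun n : ℤ =>
        if 0 ≤ n then AddCommGrpCat.of (CohTop.H F n.toNat) else AddCommGrpCat.of PUnit.{u + 1})),
      (∀ n, a.IsFinite n) ∧ SpSeq.IsBounded E ∧
      ∀ p q : ℤ, Nonempty ((E.page 1 le_rfl).X (p, q) ≅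
        (if 0 ≤ p ∧ 0 ≤ q then
          AddCommGrpCat.of (CohTop.H ((CohTop.pull
            (WidePullback.base (fun _ : Fin (p.toNat + 1) => f) :
              widePullback S (fun _ : Fin (p.toNat + 1) => X) (fun _ => f) ⟶ S)).obj F) q.toNat)
         else AddCommGrpCat.of PUnit.{u + 1})) := by
  let K := TotMap.map₂ (Compute.Γt S) (dblS f F)
  have htot : ∀ n : ℤ, Nonempty ((TotCx.tot K).homology n ≅
      if 0 ≤ n then AddCommGrpCat.of (CohTop.H F n.toNat) else AddCommGrpCat.of PUnit.{u + 1}) := by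
    intro n
    by_cases hn : 0 ≤ n
    · obtain ⟨k, rfl⟩ := Int.eq_ofNat_of_zero_le hn
      obtain ⟨R, hR⟩ := exists_res f F hf hs hsurj
      obtain ⟨e₂⟩ := Compute.nonempty_homology_iso_H R (fun n => by
        rw [hR]; exact isFlasque_totX f F n) k
      obtain ⟨e₁⟩ := nonempty_homology_iso_of_nat (TotCx.tot K)
        (isZero_X_neg_one K)
        (((Compute.Γt S).mapHomologicalComplex _).obj (totN (C := CohTop.Ab S) (dblS f F)))
        (fun j => TotMap.mapXIso (Compute.Γt S) (dblS f F) j)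
        (fun j => by
          rw [TotCx.tot_d_eq (j : ℤ) ((j + 1 : ℕ) : ℤ) (by omega),
            Functor.mapHomologicalComplex_obj_d, totN_d]
          exact TotMap.mapXIso_d (Compute.Γt S) (dblS f F) _) k
      have hk : (k : ℤ).toNat = k := Int.toNat_natCast k
      exact ⟨e₁.symm ≪≫ (HomologicalComplex.homologyFunctor _ _ k).mapIso
        (((Compute.Γt S).mapHomologicalComplex _).mapIso (eqToIso hR.symm)) ≪≫ e₂ ≪≫
        eqToIso (by rw [if_pos hn, hk])⟩
    · rw [if_neg hn]
      exact ⟨(TotExact.isZero_homology_of_neg (by omega)).iso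
        (AddCommGrpCat.isZero_of_subsingleton _)⟩
  obtain ⟨a, ha'⟩ := TotCx.exists_abutment K _ fun n => (htot n).some
  refine ⟨TotCx.ss K, a, ha', TotCx.isBounded_ss K, fun p q => ?_⟩
  by_cases hpq : 0 ≤ p ∧ 0 ≤ q
  · rw [if_pos hpq]
    obtain ⟨p, rfl⟩ := Int.eq_ofNat_of_zero_le hpq.1
    obtain ⟨q, rfl⟩ := Int.eq_ofNat_of_zero_le hpq.2
    obtain ⟨e₁⟩ := TotCx.nonempty_page_one_iso K p q
    obtain ⟨e₂⟩ := Compute.homology_cx_iso F (N f p) q
    exact ⟨e₁ ≪≫ (HomologicalComplex.homologyFunctor _ _ q).mapIso (colIso F (N f p)) ≪≫ e₂⟩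
  · rw [if_neg hpq]
    exact ⟨(TotCx.isZero_page_one K p q hpq).iso (AddCommGrpCat.isZero_of_subsingleton _)⟩

end Groth.Agent.CohTop.Proper.Descent
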