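import Groth.Agent.CohTop.Flasque
import Mathlib.Topology.Separation.Regular
import Mathlib.Topology.Sheaves.Stalks

/-!
# Extending sections from compact separated subsets

`extend_near` : a family of germs on a compact subset whose points are separated in the ambient
space is the family of germs of a section on a neighbourhood.
-/

universe u

open CategoryTheory CategoryTheory.Limits Opposite TopologicalSpace

namespace Groth.Agent.CohTop.Proper.Extend

variable {X : TopCat.{u}}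

/-- The stalks of a sheaf. -/
noncomputable abbrev St (G : CohTop.Ab X) (x : X) : AddCommGrpCat.{u} :=
  TopCat.Presheaf.stalk (C := AddCommGrpCat.{u}) (X := X) G.obj x

variable (G : CohTop.Ab X)

/-- The germ of a section. -/
noncomputable abbrev gm {U : Opens X} (a : G.obj.obj (op U)) (x : X) (hx : x ∈ U) : St G x :=
  TopCat.Presheaf.germ (C := AddCommGrpCat.{u}) (X := X) G.obj U x hx a

/-- Restriction of a section. -/
noncomputable abbrev rs {U V : Opens X} (h : V ≤ U) (a : G.obj.obj (op U)) : G.obj.obj (op V) :=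
  G.obj.map (homOfLE h).op a

theorem gm_rs {U V : Opens X} (h : V ≤ U) (a : G.obj.obj (op U)) (x : X) (hx : x ∈ V) :
    gm G (rs G h a) x hx = gm G a x (h hx) :=
  TopCat.Presheaf.germ_res_apply _ _ _ _ _

theorem exists_eq_near {U U' : Opens X} (a : G.obj.obj (op U)) (a' : G.obj.obj (op U')) (x : X)
    (hx : x ∈ U) (hx' : x ∈ U') (h : gm G a x hx = gm G a' x hx') :
    ∃ (W : Opens X) (hW : W ≤ U) (hW' : W ≤ U'), x ∈ W ∧ rs G hW a = rs G hW' a' := by
  obtain ⟨W, hxW, i₁, i₂, e⟩ :=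
    TopCat.Presheaf.germ_eq (C := AddCommGrpCat.{u}) (X := X) (F := G.obj) x hx hx' a a' h
  exact ⟨W, leOfHom i₁, leOfHom i₂, hxW, e⟩

/-- Sections agreeing at every point of a set agree near it. -/
theorem exists_eq_near_set {U U' : Opens X} (a : G.obj.obj (op U)) (a' : G.obj.obj (op U'))
    (K : Set X) (hK : K ⊆ U) (hK' : K ⊆ U')
    (h : ∀ x (hx : x ∈ K), gm G a x (hK hx) = gm G a' x (hK' hx)) :
    ∃ (W : Opens X) (hW : W ≤ U) (hW' : W ≤ U'), K ⊆ W ∧ rs G hW a = rs G hW' a' := by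
  choose W hW hW' hxW e using fun x : K =>
    exists_eq_near G a a' x.1 (hK x.2) (hK' x.2) (h x.1 x.2)
  refine ⟨⨆ x, W x, iSup_le hW, iSup_le hW',
    fun x hx => Opens.mem_iSup.2 ⟨⟨x, hx⟩, hxW ⟨x, hx⟩⟩, ?_⟩
  refine TopCat.Presheaf.section_ext G _ _ _ fun p hp => ?_
  obtain ⟨x, hx⟩ := Opens.mem_iSup.1 hp
  refine (gm_rs G _ a p hp).trans (Eq.trans ?_ (gm_rs G _ a' p hp).symm)
  exact ((gm_rs G _ a p hx).symm.trans (congrArg (fun t => gm G t p hx) (e x))).trans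
    (gm_rs G _ a' p hx)

/-- Two sections agreeing on an overlap glue. -/
theorem exists_glue₂ {U U' : Opens X} (a : G.obj.obj (op U)) (a' : G.obj.obj (op U'))
    (h : ∀ x (hx : x ∈ U) (hx' : x ∈ U'), gm G a x hx = gm G a' x hx') :
    ∃ s : G.obj.obj (op (U ⊔ U')), (∀ x (hx : x ∈ U), gm G s x (Or.inl hx) = gm G a x hx) ∧
      ∀ x (hx : x ∈ U'), gm G s x (Or.inr hx) = gm G a' x hx := by
  let V : ULift.{u} Bool → Opens X := fun b => bif b.down then U else U'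
  let sf : ∀ b, G.obj.obj (op (V b)) := fun b => match b with
    | ⟨true⟩ => a
    | ⟨false⟩ => a'
  have hc : TopCat.Presheaf.IsCompatible G.obj V sf := by
    rintro ⟨i⟩ ⟨j⟩
    refine TopCat.Presheaf.section_ext G _ _ _ fun p hp => ?_
    refine (gm_rs G _ (sf ⟨i⟩) p hp).trans (Eq.trans ?_ (gm_rs G _ (sf ⟨j⟩) p hp).symm)
    cases i <;> cases j
    · rfl
    · exact (h p hp.2 hp.1).symm
    · exact h p hp.1 hp.2
    · rfl
  have hle : ∀ b, V b ≤ U ⊔ U' := fun b => by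
    rcases b with ⟨_ | _⟩
    · exact le_sup_right
    · exact le_sup_left
  obtain ⟨s, hs, -⟩ := TopCat.Sheaf.existsUnique_gluing' G V (U ⊔ U') (fun b => homOfLE (hle b))
    (sup_le (le_iSup V ⟨true⟩) (le_iSup V ⟨false⟩)) sf hc
  exact ⟨s, fun x hx => (gm_rs G (hle ⟨true⟩) s x hx).symm.trans
      (congrArg (fun t => gm G t x hx) (hs ⟨true⟩)),
    fun x hx => (gm_rs G (hle ⟨false⟩) s x hx).symm.trans
      (congrArg (fun t => gm G t x hx) (hs ⟨false⟩))⟩

theorem separated_compact {K K' : Set X} (hK : IsCompact K) (hK' : IsCompact K')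
    (h : ∀ x ∈ K, ∀ y ∈ K', ∃ O O' : Opens X, x ∈ O ∧ y ∈ O' ∧ Disjoint O O') :
    ∃ O O' : Opens X, K ⊆ O ∧ K' ⊆ O' ∧ Disjoint O O' := by
  have step : ∀ x ∈ K, ∃ O O' : Opens X, x ∈ O ∧ K' ⊆ O' ∧ Disjoint O O' := by
    intro x hx
    refine hK'.induction_on (p := fun T => ∃ O O' : Opens X, x ∈ O ∧ T ⊆ O' ∧ Disjoint O O')
      ⟨⊤, ⊥, trivial, Set.empty_subset _, disjoint_bot_right⟩
      (fun s t hst ⟨O, O', hxO, hs, hd⟩ => ⟨O, O', hxO, hst.trans hs, hd⟩)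
      (fun s t ⟨O, O', hxO, hs, hd⟩ ⟨P, P', hxP, ht, hd'⟩ => ⟨O ⊓ P, O' ⊔ P', ⟨hxO, hxP⟩,
        Set.union_subset (hs.trans Set.subset_union_left) (ht.trans Set.subset_union_right),
        (hd.mono_left inf_le_left).sup_right (hd'.mono_left inf_le_right)⟩) fun y hy => ?_
    obtain ⟨O, O', hxO, hyO, hd⟩ := h x hx y hy
    exact ⟨O', mem_nhdsWithin_of_mem_nhds (O'.2.mem_nhds hyO), O, O', hxO, le_rfl, hd⟩
  refine hK.induction_on (p := fun T => ∃ O O' : Opens X, T ⊆ O ∧ K' ⊆ O' ∧ Disjoint O O')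
    ⟨⊥, ⊤, Set.empty_subset _, Set.subset_univ _, disjoint_bot_left⟩
    (fun s t hst ⟨O, O', hs, hK', hd⟩ => ⟨O, O', hst.trans hs, hK', hd⟩)
    (fun s t ⟨O, O', hs, hO', hd⟩ ⟨P, P', ht, hP', hd'⟩ => ⟨O ⊔ P, O' ⊓ P',
      Set.union_subset (hs.trans Set.subset_union_left) (ht.trans Set.subset_union_right),
      Set.subset_inter hO' hP',
      (hd.mono_right inf_le_left).sup_left (hd'.mono_right inf_le_right)⟩) fun x hx => ?_
  obtain ⟨O, O', hxO, hK', hd⟩ := step x hx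
  exact ⟨O, mem_nhdsWithin_of_mem_nhds (O.2.mem_nhds hxO), O, O', le_rfl, hK', hd⟩

variable {Z : TopCat.{u}} (i : Z ⟶ X)

/-- A family of germs on `C` which is locally given by sections. -/
def IsGermsOn (C : Set Z) (b : ∀ z : Z, St G (i z)) : Prop :=
  ∀ z ∈ C, ∃ (W : Opens X) (_ : i z ∈ W) (a : G.obj.obj (op W)),
    ∀ z' ∈ C, ∀ (h : i z' ∈ W), gm G a (i z') h = b z'

/-- The points of `Z` are separated in `X`. -/
def Sep : Prop := ∀ z z' : Z, z ≠ z' → ∃ O O' : Opens X, i z ∈ O ∧ i z' ∈ O' ∧ Disjoint O O'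

variable {i}

theorem Sep.t2 (hs : Sep i) : T2Space Z := ⟨fun z z' h => by
  obtain ⟨O, O', hz, hz', hd⟩ := hs z z' h
  refine ⟨i ⁻¹' (O : Set X), i ⁻¹' (O' : Set X), O.2.preimage i.hom.continuous,
    O'.2.preimage i.hom.continuous, hz, hz', Set.disjoint_left.2 fun w hw hw' => ?_⟩
  exact (hd.le_bot ⟨hw, hw'⟩ : i w ∈ (⊥ : Opens X))⟩

/-- A family of germs on a compact set with separated points extends to a neighbourhood. -/
theorem extend_near [CompactSpace Z] (hs : Sep i) (C : Set Z) (hC : IsClosed C)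
    (b : ∀ z : Z, St G (i z)) (hb : IsGermsOn G i C b) :
    ∃ (U : Opens X) (hU : ∀ z ∈ C, i z ∈ U) (a : G.obj.obj (op U)),
      ∀ z (hz : z ∈ C), gm G a (i z) (hU z hz) = b z := by
  have := hs.t2
  let P : Set Z → Prop := fun T => ∃ (D : Set Z) (_ : IsClosed D) (_ : T ⊆ D) (U : Opens X)
    (hU : ∀ z ∈ C ∩ D, i z ∈ U) (a : G.obj.obj (op U)),
      ∀ z (hz : z ∈ C ∩ D), gm G a (i z) (hU z hz) = b z
  have hP : P C := by
    refine hC.isCompact.induction_on (p := P)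
      ⟨∅, isClosed_empty, le_rfl, ⊥, fun z hz => hz.2.elim, 0, fun z hz => hz.2.elim⟩
      (fun s t hst ⟨D, hD, hs', U, hU, a, ha⟩ => ⟨D, hD, hst.trans hs', U, hU, a, ha⟩) ?_ ?_
    · rintro s t ⟨D, hD, hsD, U, hU, a, ha⟩ ⟨D', hD', htD', U', hU', a', ha'⟩
      obtain ⟨W, hW, hW', hKW, eW⟩ := exists_eq_near_set G a a' (i '' (C ∩ D ∩ D'))
        (by rintro _ ⟨z, hz, rfl⟩; exact hU z hz.1)
        (by rintro _ ⟨z, hz, rfl⟩; exact hU' z ⟨hz.1.1, hz.2⟩)
        (by rintro _ ⟨z, hz, rfl⟩; exact (ha z hz.1).trans (ha' z ⟨hz.1.1, hz.2⟩).symm)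
      have hcl : IsClosed (i ⁻¹' (W : Set X))ᶜ := (W.2.preimage i.hom.continuous).isClosed_compl
      obtain ⟨O, O', hO, hO', hd⟩ := separated_compact
        ((((hC.inter hD).inter hcl).isCompact).image i.hom.continuous)
        ((((hC.inter hD').inter hcl).isCompact).image i.hom.continuous)
        (by
          rintro _ ⟨z, hz, rfl⟩ _ ⟨z', hz', rfl⟩
          refine hs z z' fun e => hz.2 ?_
          subst e
          exact hKW ⟨z, ⟨hz.1, hz'.1.2⟩, rfl⟩)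
      have hA : (U ⊓ O) ⊔ W ≤ U := sup_le inf_le_left hW
      have hB : (U' ⊓ O') ⊔ W ≤ U' := sup_le inf_le_left hW'
      obtain ⟨s', hs₁, hs₂⟩ := exists_glue₂ G (rs G hA a) (rs G hB a') fun x hx hx' => by
        have hxW : x ∈ W := by
          rcases hx with hx | hx
          · rcases hx' with hx' | hx'
            · exact (hd.le_bot ⟨hx.2, hx'.2⟩ : x ∈ (⊥ : Opens X)).elim
            · exact hx'
          · exact hx
        refine (gm_rs G _ a x hx).trans (Eq.trans ?_ (gm_rs G _ a' x hx').symm)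
        exact ((gm_rs G _ a x hxW).symm.trans (congrArg (fun t => gm G t x hxW) eW)).trans
          (gm_rs G _ a' x hxW)
      have mA : ∀ z ∈ C ∩ D, i z ∈ (U ⊓ O) ⊔ W := fun z hz => by
        by_cases hw : i z ∈ W
        · exact Or.inr hw
        · exact Or.inl ⟨hU z hz, hO ⟨z, ⟨hz, hw⟩, rfl⟩⟩
      have mB : ∀ z ∈ C ∩ D', i z ∈ (U' ⊓ O') ⊔ W := fun z hz => by
        by_cases hw : i z ∈ W
        · exact Or.inr hw
        · exact Or.inl ⟨hU' z hz, hO' ⟨z, ⟨hz, hw⟩, rfl⟩⟩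
      refine ⟨D ∪ D', hD.union hD', Set.union_subset_union hsD htD', _, ?_, s', ?_⟩
      · rintro z ⟨hzC, hzD | hzD⟩
        · exact Or.inl (mA z ⟨hzC, hzD⟩)
        · exact Or.inr (mB z ⟨hzC, hzD⟩)
      · rintro z ⟨hzC, hzD | hzD⟩
        · exact ((hs₁ _ (mA z ⟨hzC, hzD⟩)).trans (gm_rs G _ a _ (mA z ⟨hzC, hzD⟩))).trans
            (ha z ⟨hzC, hzD⟩)
        · exact ((hs₂ _ (mB z ⟨hzC, hzD⟩)).trans (gm_rs G _ a' _ (mB z ⟨hzC, hzD⟩))).trans
            (ha' z ⟨hzC, hzD⟩)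
    · intro z hz
      obtain ⟨W, hzW, a, ha⟩ := hb z hz
      obtain ⟨D, hD, hDc, hDW⟩ := exists_mem_nhds_isClosed_subset
        ((W.2.preimage i.hom.continuous).mem_nhds hzW)
      exact ⟨D, mem_nhdsWithin_of_mem_nhds hD, D, hDc, le_rfl, W, fun z' hz' => hDW hz'.2, a,
        fun z' hz' => ha z' hz'.1 _⟩
  obtain ⟨D, -, hCD, U, hU, a, ha⟩ := hP
  exact ⟨U, fun z hz => hU z ⟨hz, hCD hz⟩, a, fun z hz => ha z ⟨hz, hCD hz⟩⟩

/-- Families of germs glue on two closed sets. -/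
theorem isGermsOn_union (hi : Topology.IsInducing i) {C D : Set Z} (hC : IsClosed C)
    (hD : IsClosed D) {b : ∀ z : Z, St G (i z)} (h : IsGermsOn G i C b) (h' : IsGermsOn G i D b) :
    IsGermsOn G i (C ∪ D) b := by
  have avoid : ∀ (E : Set Z), IsClosed E → ∀ z ∉ E, ∃ N : Opens X, i z ∈ N ∧
      ∀ z', i z' ∈ N → z' ∉ E := fun E hE z hz => by
    obtain ⟨N, hN, e⟩ := hi.isOpen_iff.1 hE.isOpen_compl
    exact ⟨⟨N, hN⟩, (e.symm ▸ hz : z ∈ i ⁻¹' N), fun z' hz' hz'' => by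
      have : z' ∈ Eᶜ := e ▸ hz'
      exact this hz''⟩
  intro z hz
  by_cases hzC : z ∈ C
  · obtain ⟨W, hzW, a, ha⟩ := h z hzC
    by_cases hzD : z ∈ D
    · obtain ⟨W', hzW', a', ha'⟩ := h' z hzD
      obtain ⟨V, hV, hV', hzV, e⟩ := exists_eq_near G a a' (i z) hzW hzW'
        ((ha z hzC _).trans (ha' z hzD _).symm)
      refine ⟨V, hzV, rs G hV a, fun z' hz' hV'' => ?_⟩
      rcases hz' with hz' | hz'
      · exact (gm_rs G hV a _ hV'').trans (ha z' hz' _)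
      · rw [e]
        exact (gm_rs G hV' a' _ hV'').trans (ha' z' hz' _)
    · obtain ⟨N, hzN, hN⟩ := avoid D hD z hzD
      refine ⟨W ⊓ N, ⟨hzW, hzN⟩, rs G inf_le_left a, fun z' hz' hV'' => ?_⟩
      exact (gm_rs G inf_le_left a _ hV'').trans
        (ha z' (hz'.resolve_right (hN z' hV''.2)) _)
  · obtain ⟨W', hzW', a', ha'⟩ := h' z (hz.resolve_left hzC)
    obtain ⟨N, hzN, hN⟩ := avoid C hC z hzC
    refine ⟨W' ⊓ N, ⟨hzW', hzN⟩, rs G inf_le_left a', fun z' hz' hV'' => ?_⟩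
    exact (gm_rs G inf_le_left a' _ hV'').trans (ha' z' (hz'.resolve_left (hN z' hV''.2)) _)

theorem isGermsOn_congr {C : Set Z} {b b' : ∀ z : Z, St G (i z)} (h : IsGermsOn G i C b)
    (e : ∀ z ∈ C, b z = b' z) : IsGermsOn G i C b' := fun z hz => by
  obtain ⟨W, hzW, a, ha⟩ := h z hz
  exact ⟨W, hzW, a, fun z' hz' h' => (ha z' hz' h').trans (e z' hz')⟩

end Groth.Agent.CohTop.Proper.Extend
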