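import Groth.Agent.CohTop.Proper.Nbhd

/-!
# Godement complexes near compact subspaces

`cx_lift`, `cx_near` : the comparison of the Godement complex near a compact separated subspace
`T' ⊆ T` with the one of `T'`.
-/

universe u

open CategoryTheory CategoryTheory.Limits Opposite TopologicalSpace

namespace Groth.Agent.CohTop.Proper.Fibre

open Groth.Agent.CohTop.Descent.Fam Groth.Agent.CohTop.Proper.Extend Groth.Agent.CohTop.Proper.Soft
  Groth.Agent.CohTop.Proper.Nbhd Groth.Agent.ModShf.AcyclicRes

/-- A resolution from stalkwise data. -/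
theorem quasiIso_of_exact {X : TopCat.{u}} {F : CohTop.Ab X} (K : CochainComplex (CohTop.Ab X) ℕ)
    (j : F ⟶ K.X 0) (w : j ≫ K.d 0 1 = 0) (hj : Mono j) (h₀ : (ShortComplex.mk _ _ w).Exact)
    (hs : ∀ n, (ShortComplex.mk _ _ (K.d_comp_d n (n + 1) (n + 2))).Exact) :
    QuasiIso ((CochainComplex.fromSingle₀Equiv K F).symm ⟨j, w⟩) := by
  refine (quasiIso_iff _).2 fun n => ?_
  set e := (CochainComplex.fromSingle₀Equiv K F).symm ⟨j, w⟩ with he
  cases n with
  | zero =>
    rw [CochainComplex.quasiIsoAt₀_iff, ShortComplex.quasiIso_iff_of_zeros] <;>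
      try (first | rfl | simp)
    all_goals try rfl
    refine ⟨?_, ?_⟩
    · refine ShortComplex.exact_of_iso (ShortComplex.isoMk (Iso.refl _) (Iso.refl _) (Iso.refl _)
        ?_ ?_) h₀
      · simp [e] <;> exact (Category.id_comp _).trans (Category.comp_id _).symm
      · simp <;> exact (Category.id_comp _).trans (Category.comp_id _).symm
    · simp [e]
      assumption
  | succ n =>
    rw [quasiIsoAt_iff_exactAt e (n + 1) (CochainComplex.exactAt_succ_single_obj _ _),
      HomologicalComplex.exactAt_iff' _ n (n + 1) (n + 1 + 1) (CochainComplex.prev_nat_succ n)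
        (CochainComplex.next ℕ (n + 1))]
    exact hs n

variable {S : TopCat.{u}} (F : CohTop.Ab S) {T' T : Over S} (h : T' ⟶ T)

/-- The comparison of Godement sheaves. -/
noncomputable def ψ (q : ℕ) :
    GS (Descent.Base.base F) q T ⟶ (CohTop.push h.left).obj (GS (Descent.Base.base F) q T') :=
  ⟨gdΦ (iter (Descent.Base.base F) q) h⟩

/-- The adjoint comparison. -/
noncomputable def φf (q : ℕ) :
    (CohTop.pull h.left).obj (GS (Descent.Base.base F) q T) ⟶ GS (Descent.Base.base F) q T' :=
  ((TopCat.Sheaf.pullbackPushforwardAdjunction AddCommGrpCat.{u} h.left).homEquiv _ _).symm (ψ F h q)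

theorem φf_uni (q : ℕ) (U : Opens T.left)
    (y : (GS (Descent.Base.base F) q T).obj.obj (op U)) :
    (φf F h q).hom.app _ (uni h.left (GS (Descent.Base.base F) q T) U y) =
      (gdΦ (iter (Descent.Base.base F) q) h).app (op U) y := by
  have := ((TopCat.Sheaf.pullbackPushforwardAdjunction AddCommGrpCat.{u} h.left).homEquiv
    (GS (Descent.Base.base F) q T) (GS (Descent.Base.base F) q T')).apply_symm_apply (ψ F h q)
  erw [Adjunction.homEquiv_apply] at this
  exact ConcreteCategory.congr_hom (congrArg (fun φ => φ.hom.app (op U)) this) y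

theorem φf_comm (q : ℕ) :
    φf F h q ≫ dGS (Descent.Base.base F) q T' =
      (CohTop.pull h.left).map (dGS (Descent.Base.base F) q T) ≫ φf F h (q + 1) := by
  let adj := TopCat.Sheaf.pullbackPushforwardAdjunction AddCommGrpCat.{u} h.left
  apply (adj.homEquiv _ _).injective
  have hq : ∀ q, adj.homEquiv _ _ (φf F h q) = ψ F h q := fun q => Equiv.apply_symm_apply _ _
  refine (adj.homEquiv_naturality_right (φf F h q) (dGS (Descent.Base.base F) q T')).trans
    (Eq.trans ?_ (adj.homEquiv_naturality_left (dGS (Descent.Base.base F) q T) (φf F h (q + 1))).symm)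
  refine (congrArg (· ≫ _) (hq q)).trans (Eq.trans ?_ (congrArg (dGS (Descent.Base.base F) q T ≫ ·) (hq (q + 1))).symm)
  apply CategoryTheory.Sheaf.hom_ext
  ext1
  funext V
  refine ConcreteCategory.hom_ext _ _ fun s => ?_
  exact (dGS_naturality (Descent.Base.base F) q h V.unop s).symm

/-- The comparison of complexes. -/
noncomputable def φcx :
    ((CohTop.pull h.left).mapHomologicalComplex _).obj (GSCx (Descent.Base.base F) T) ⟶
      GSCx (Descent.Base.base F) T' :=
  CochainComplex.ofHom (fun q => φf F h q) fun q => by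
    simp only [Functor.mapHomologicalComplex_obj_d, CochainComplex.of_d]
    exact φf_comm F h q

/-- The augmentation on `T'` through `T`. -/
noncomputable def ι' :
    (CohTop.pull h.left).obj ((CohTop.pull T.hom).obj F) ⟶ GS (Descent.Base.base F) 0 T' :=
  (CohTop.pull h.left).map (Descent.Base.ι F T) ≫ φf F h 0

theorem ι'_dGS : ι' F h ≫ dGS (Descent.Base.base F) 0 T' = 0 := by
  rw [ι', Category.assoc, φf_comm, ← Category.assoc, ← Functor.map_comp, Descent.Base.ι_dGS,
    Functor.map_zero, zero_comp]

open Descent.Base (σ σ_germ σ_surjective ι_stalk_injective ι_stalk_exact unit_ι) in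
theorem ι'_stalk (z : T'.left) (U : Opens S) (hU : T.hom (h.left z) ∈ U) (a : F.obj.obj (op U)) :
    stk (ι' F h) z (σi h.left _ z (σ F T (h.left z)
        (TopCat.Presheaf.germ F.obj U (T.hom (h.left z)) hU a))) =
      stk (Descent.Base.ι F T') z (σ F T' z (TopCat.Presheaf.germ F.obj U (T'.hom z)
        (Descent.Base.over_w h z ▸ hU) a)) := by
  have hU' : T'.hom z ∈ U := Descent.Base.over_w h z ▸ hU
  have e1 : σ F T (h.left z) (TopCat.Presheaf.germ F.obj U (T.hom (h.left z)) hU a) =
      gm _ (Descent.Base.unit F T U a) (h.left z) hU :=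
    ConcreteCategory.congr_hom (σ_germ F T (h.left z) U hU) a
  have e2 : σ F T' z (TopCat.Presheaf.germ F.obj U (T'.hom z) hU' a) =
      gm _ (Descent.Base.unit F T' U a) z hU' :=
    ConcreteCategory.congr_hom (σ_germ F T' z U hU') a
  have hle : (Opens.map T'.hom).obj U ≤ (Opens.map h.left).obj ((Opens.map T.hom).obj U) :=
    fun x (hx : T'.hom x ∈ U) => show T.hom (h.left x) ∈ U from (Descent.Base.over_w h x).symm ▸ hx
  have key : (ι' F h).hom.app _ (uni h.left _ ((Opens.map T.hom).obj U) (Descent.Base.unit F T U a)) =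
      (gdΦ (Descent.Base.base F) h).app (op ((Opens.map T.hom).obj U))
        ((Groth.Agent.CohAff.ηPre (Descent.Base.germsPre F T)).app _
          (Descent.Base.secGerms F T U a)) := by
    refine (congrArg ((φf F h 0).hom.app _) ?_).trans (φf_uni F h 0 _ _)
    have hn := congrArg (fun φ => φ.hom.app (op ((Opens.map T.hom).obj U)))
      ((TopCat.Sheaf.pullbackPushforwardAdjunction AddCommGrpCat.{u} h.left).unit.naturality
        (Descent.Base.ι F T))
    exact (ConcreteCategory.congr_hom hn (Descent.Base.unit F T U a)).symm.trans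
      (congrArg (uni h.left _ _) (unit_ι F T U a))
  have l1 : stk (ι' F h) z (σi h.left _ z (σ F T (h.left z)
        (TopCat.Presheaf.germ F.obj U (T.hom (h.left z)) hU a))) =
      gm (GS (Descent.Base.base F) 0 T') ((ι' F h).hom.app _
        (uni h.left _ ((Opens.map T.hom).obj U) (Descent.Base.unit F T U a))) z hU :=
    (congrArg (fun t => stk (ι' F h) z (σi h.left _ z t)) e1).trans
      ((congrArg (stk (ι' F h) z)
        (σi_gm h.left _ (U := (Opens.map T.hom).obj U) (Descent.Base.unit F T U a) z hU)).trans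
        (gm_app (ι' F h) _ z hU))
  have r1 : stk (Descent.Base.ι F T') z (σ F T' z (TopCat.Presheaf.germ F.obj U (T'.hom z) hU' a)) =
      gm (GS (Descent.Base.base F) 0 T') ((Groth.Agent.CohAff.ηPre (Descent.Base.germsPre F T')).app
        (op ((Opens.map T'.hom).obj U)) (Descent.Base.secGerms F T' U a)) z hU' :=
    ((congrArg (stk (Descent.Base.ι F T') z) e2).trans (gm_app (Descent.Base.ι F T') _ z hU')).trans
      (congrArg (fun t => gm (GS (Descent.Base.base F) 0 T') t z hU') (unit_ι F T' U a))
  refine l1.trans (((congrArg (fun t => gm (GS (Descent.Base.base F) 0 T') t z hU) key)).trans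
    (Eq.trans ?_ r1.symm))
  refine (gm_rs (GS (Descent.Base.base F) 0 T') hle _ z hU').symm.trans
    (congrArg (fun t => gm (GS (Descent.Base.base F) 0 T') t z hU') ?_)
  refine funext fun x => ?_
  refine (Descent.Fam.sm_germ (Descent.Base.base F) h x.1 _ (hle x.2) _).trans ?_
  refine (TopCat.Presheaf.germ_res_apply _ (homOfLE hle) x.1 x.2 _).symm.trans (congrArg _ ?_)
  exact Subtype.ext (funext fun y => Descent.Base.tr_germ F (Descent.Base.over_w h y.1) U _ a)

open Descent.Base (σ σ_injective σ_surjective) in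
theorem exists_σσ (z : T'.left)
    (t : St ((CohTop.pull h.left).obj ((CohTop.pull T.hom).obj F)) z) :
    ∃ (U : Opens S) (hU : T.hom (h.left z) ∈ U) (a : F.obj.obj (op U)),
      σi h.left _ z (σ F T (h.left z) (TopCat.Presheaf.germ F.obj U (T.hom (h.left z)) hU a)) = t := by
  obtain ⟨t₁, rfl⟩ := (σi_bijective h.left ((CohTop.pull T.hom).obj F) z).2 t
  obtain ⟨t₀, rfl⟩ := σ_surjective F T (h.left z) t₁
  obtain ⟨U, hU, a, rfl⟩ := TopCat.Presheaf.exists_germ_eq F.obj t₀
  exact ⟨U, hU, a, rfl⟩

open Descent.Base (σ σ_injective σ_surjective ι_stalk_injective ι_stalk_exact) in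
theorem mono_exact_ι' : Mono (ι' F h) ∧
    ∀ w : ι' F h ≫ (GSCx (Descent.Base.base F) T').d 0 1 = 0, (ShortComplex.mk _ _ w).Exact := by
  have hinj : ∀ (z : T'.left) t, stk (ι' F h) z t = 0 → t = 0 := by
    intro z t ht
    obtain ⟨U, hU, a, rfl⟩ := exists_σσ F h z t
    rw [ι'_stalk] at ht
    have h1 := (ι_stalk_injective F T' z _ ht)
    rw [← map_zero (σ F T' z).hom] at h1
    have h2 : TopCat.Presheaf.germ F.obj U (T'.hom z) (Descent.Base.over_w h z ▸ hU) a = 0 :=
      σ_injective F T' z h1
    have h3 : TopCat.Presheaf.germ F.obj U (T.hom (h.left z)) hU a = 0 :=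
      (Descent.Base.tr_germ F (Descent.Base.over_w h z).symm U _ a).symm.trans
        ((congrArg (Descent.Base.tr F _) h2).trans (map_zero _))
    rw [h3, map_zero, map_zero]
  have : Mono (ι' F h) := by
    refine Preadditive.mono_of_cancel_zero _ fun {Z} g hg => ?_
    apply CategoryTheory.Sheaf.hom_ext
    ext1
    funext V
    refine ConcreteCategory.hom_ext _ _ fun s => ?_
    refine TopCat.Presheaf.section_ext _ V.unop _ _ fun x hx => ?_
    refine Eq.trans ?_ (map_zero _).symm
    refine hinj x _ ?_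
    refine (gm_app (ι' F h) _ x hx).trans ?_
    exact (congrArg (fun s => gm _ s x hx)
      (ConcreteCategory.congr_hom (congrArg (fun φ => φ.hom.app V) hg) s)).trans (map_zero _)
  refine ⟨this, fun w => ?_⟩
  have h₀ : (ShortComplex.mk _ _ w).Exact := by
    refine (TopCat.Sheaf.exact_iff_stalkFunctor_map_exact (C := AddCommGrpCat.{u}) _).2 fun z => ?_
    rw [ShortComplex.ab_exact_iff]
    intro t ht
    obtain ⟨t', ht'⟩ := ι_stalk_exact F T' z t (by
      change stk ((GSCx (Descent.Base.base F) T').d 0 1) z t = 0 at ht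
      rwa [Descent.Compute.GSCx_d] at ht)
    obtain ⟨t₀, rfl⟩ := σ_surjective F T' z t'
    obtain ⟨U, hU, a, rfl⟩ := TopCat.Presheaf.exists_germ_eq F.obj t₀
    have hU₀ : T.hom (h.left z) ∈ U := (Descent.Base.over_w h z).symm ▸ hU
    exact ⟨σi h.left _ z (σ F T (h.left z) (TopCat.Presheaf.germ F.obj U _ hU₀ a)),
      (ι'_stalk F h z U hU₀ a).trans ht'⟩
  exact h₀

theorem ι'_d : ι' F h ≫ (GSCx (Descent.Base.base F) T').d 0 1 = 0 := by
  rw [Descent.Compute.GSCx_d]; exact ι'_dGS F h

theorem exact_GSCx (U : Over S) (n : ℕ) :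
    (ShortComplex.mk _ _ ((GSCx (Descent.Base.base F) U).d_comp_d n (n + 1) (n + 2))).Exact := by
  refine ShortComplex.exact_of_iso (ShortComplex.isoMk
    (S₁ := ShortComplex.mk _ _ (dGS_comp (Descent.Base.base F) n U))
    (Iso.refl _) (Iso.refl _) (Iso.refl _) ?_ ?_) (Descent.Base.exact_dGS U (Descent.Base.base F) n)
  · simp [Descent.Compute.GSCx_d]
  · simp
    exact Descent.Compute.GSCx_d F U (n + 1)

/-- The augmentation on `T'` through `T`, as a map of complexes. -/
noncomputable def augT : (CochainComplex.single₀ _).obj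
    ((CohTop.pull h.left).obj ((CohTop.pull T.hom).obj F)) ⟶ GSCx (Descent.Base.base F) T' :=
  (CochainComplex.fromSingle₀Equiv (GSCx (Descent.Base.base F) T')
    ((CohTop.pull h.left).obj ((CohTop.pull T.hom).obj F))).symm ⟨ι' F h, ι'_d F h⟩

theorem quasiIso_augT : QuasiIso (augT F h) := by
  unfold augT
  exact quasiIso_of_exact (GSCx (Descent.Base.base F) T') (ι' F h) (ι'_d F h) (mono_exact_ι' F h).1
    ((mono_exact_ι' F h).2 (ι'_d F h)) (exact_GSCx F T')

/-- The resolution on `T'` through `T`. -/
noncomputable def resT : Res ((CohTop.pull h.left).obj ((CohTop.pull T.hom).obj F)) :=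
  ⟨GSCx (Descent.Base.base F) T', augT F h, quasiIso_augT F h⟩

theorem ι_d (U : Over S) :
    Descent.Base.ι F U ≫ (GSCx (Descent.Base.base F) U).d 0 1 = 0 := by
  rw [Descent.Compute.GSCx_d]; exact Descent.Base.ι_dGS F U

/-- The augmentation on a space, as a map of complexes. -/
noncomputable def augB (U : Over S) : (CochainComplex.single₀ _).obj ((CohTop.pull U.hom).obj F) ⟶
    GSCx (Descent.Base.base F) U :=
  (CochainComplex.fromSingle₀Equiv (GSCx (Descent.Base.base F) U)
    ((CohTop.pull U.hom).obj F)).symm ⟨Descent.Base.ι F U, ι_d F U⟩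

theorem quasiIso_augB (U : Over S) : QuasiIso (augB F U) := by
  unfold augB
  refine quasiIso_of_exact (GSCx (Descent.Base.base F) U) (Descent.Base.ι F U) (ι_d F U)
    (Descent.Base.mono_ι F U) ?_ (exact_GSCx F U)
  exact ShortComplex.exact_of_iso (ShortComplex.isoMk
    (S₂ := ShortComplex.mk (Descent.Base.ι F U) ((GSCx (Descent.Base.base F) U).d 0 1) (ι_d F U))
    (Iso.refl _) (Iso.refl _) (Iso.refl _)
    (by simp) (by simp [Descent.Compute.GSCx_d])) (Descent.Base.exact_ι F U)

/-- The resolution on a space. -/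
noncomputable def resB (U : Over S) : Res ((CohTop.pull U.hom).obj F) :=
  ⟨GSCx (Descent.Base.base F) U, augB F U, quasiIso_augB F U⟩

theorem ι_φcx : (pullRes (i := h.left) (resB F T)).ι ≫ φcx F h = (resT F h).ι := by
  refine HomologicalComplex.from_single_hom_ext ?_
  simp [pullRes, resB, resT, augT, augB, φcx, ι']
  exact Category.id_comp _

/-- Restriction of a section near the image. -/
noncomputable def cmpT (q : ℕ) (U : Opens T.left) (hU : ∀ z, h.left z ∈ U)
    (y : (GS (Descent.Base.base F) q T).obj.obj (op U)) :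
    (GS (Descent.Base.base F) q T').obj.obj (op ⊤) :=
  rs (GS (Descent.Base.base F) q T') (fun z _ => hU z : (⊤ : Opens T'.left) ≤ (Opens.map h.left).obj U)
    ((gdΦ (iter (Descent.Base.base F) q) h).app (op U) y)

theorem φcx_uniZ (q : ℕ) (U : Opens T.left) (hU : ∀ z, h.left z ∈ U)
    (y : (GS (Descent.Base.base F) q T).obj.obj (op U)) :
    ((φcx F h).f q).hom.app (op ⊤) (uniZ (GS (Descent.Base.base F) q T) U hU y) =
      cmpT F h q U hU y := by
  refine (ConcreteCategory.congr_hom ((φf F h q).hom.naturality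
    (homOfLE (fun z _ => hU z : (⊤ : Opens T'.left) ≤ (Opens.map h.left).obj U)).op) _).trans ?_
  exact congrArg (rs _ _) (φf_uni F h q U y)

variable [CompactSpace T'.left] (hind : Topology.IsInducing h.left) (hs : Sep h.left)

include hind hs in
/-- Cocycles of `T'` come from cocycles near it, and those exact on `T'` are exact near it. -/
theorem cx_lift_near (q : ℕ) :
    (∀ z : (GS (Descent.Base.base F) q T').obj.obj (op ⊤),
      (dGS (Descent.Base.base F) q T').hom.app (op ⊤) z = 0 →
      ∃ (U : Opens T.left) (hU : ∀ x, h.left x ∈ U)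
        (y : (GS (Descent.Base.base F) q T).obj.obj (op U)),
        (dGS (Descent.Base.base F) q T).hom.app (op U) y = 0 ∧
        ∃ w, ((GSCx (Descent.Base.base F) T').d ((ComplexShape.up ℕ).prev q) q).hom.app (op ⊤) w =
          cmpT F h q U hU y - z) ∧
    (∀ (U : Opens T.left) (hU : ∀ x, h.left x ∈ U)
      (y : (GS (Descent.Base.base F) q T).obj.obj (op U)),
      (dGS (Descent.Base.base F) q T).hom.app (op U) y = 0 →
      ∀ w, ((GSCx (Descent.Base.base F) T').d ((ComplexShape.up ℕ).prev q) q).hom.app (op ⊤) w =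
        cmpT F h q U hU y →
      ∃ (U' : Opens T.left) (hle : U' ≤ U) (_ : ∀ x, h.left x ∈ U')
        (v : (GS (Descent.Base.base F) ((ComplexShape.up ℕ).prev q) T).obj.obj (op U')),
        ((GSCx (Descent.Base.base F) T).d ((ComplexShape.up ℕ).prev q) q).hom.app (op U') v =
          rs (GS (Descent.Base.base F) q T) hle y) := by
  have := hs.t2
  have hR : ∀ n, TopCat.Sheaf.IsFlasque ((resB F T).K.X n) := fun n =>
    isFlasque_GS (Descent.Base.base F) n T
  have hL : ∀ n, IsSoft ((resT F h).K.X n) := fun n =>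
    @isSoft_of_flasque _ _ _ _ (isFlasque_GS (Descent.Base.base F) n T')
  have hd : ∀ U : Over S, (GSCx (Descent.Base.base F) U).d q (q + 1) =
      dGS (Descent.Base.base F) q U := fun U => Descent.Compute.GSCx_d F U q
  refine ⟨fun z hz => ?_, fun U hU y hy w hw => ?_⟩
  · obtain ⟨U, hU, y, hy, w, hw⟩ := exists_lift hind hs (resB F T) hR hL (φcx F h) (ι_φcx F h) q z
      (by show ((GSCx (Descent.Base.base F) T').d q (q + 1)).hom.app (op ⊤) z = 0
          rw [hd]; exact hz)
    refine ⟨U, hU, y, by rw [← hd]; exact hy, w, hw.trans ?_⟩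
    exact congrArg (· - z) (φcx_uniZ F h q U hU y)
  · exact exists_near hind hs (resB F T) hR hL (φcx F h) (ι_φcx F h) q U hU y
      (by show ((GSCx (Descent.Base.base F) T).d q (q + 1)).hom.app (op U) y = 0
          rw [hd]; exact hy) w (hw.trans (φcx_uniZ F h q U hU y).symm)

end Groth.Agent.CohTop.Proper.Fibre
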