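import Groth.Agent.CohTop.Proper.PCx
import Groth.Agent.CohTop.Descent.Main
import Groth.Agent.CohTop.Descent.AltCx

/-!
# Rows over a point are exact
-/

universe u

open CategoryTheory CategoryTheory.Limits Opposite TopologicalSpace Simplicial AlgebraicTopology

namespace Groth.Agent.CohTop.Proper.FibreRows

open Groth.Agent.CohTop.Descent Groth.Agent.CohTop.Descent.Fam Groth.Agent.CohTop.Descent.Nerve
  Groth.Agent.CohTop.Descent.Rows Groth.Agent.CohTop.Proper.PCx

variable {X S : TopCat.{u}} (f : X ⟶ S) (x : S)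

/-- The cosimplicial complex of the fibre. -/
noncomputable abbrev fibY (M : Fam S) : CosimplicialObject (CochainComplex AddCommGrpCat.{u} ℕ) :=
  (nerve f).rightOp ⋙ (fibF x).op ⋙ cx M

/-- The double complex of the fibre. -/
noncomputable abbrev fibDbl (M : Fam S) : CochainComplex (CochainComplex AddCommGrpCat.{u} ℕ) ℕ :=
  AlternatingCofaceMapComplex.obj (fibY f x M)

/-- The augmentation of the fibre. -/
noncomputable def fibAug (M : Fam S) : (cx M).obj (op (fib x (top S))) ⟶ (fibDbl f x M).X 0 :=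
  (cx M).map ((fibF x).map (toTop (N f 0))).op

/-- The map on global families. -/
noncomputable def gdH (M : Fam S) {T' T : Over S} (k : T' ⟶ T) :
    (Γg M T : Type u) →+ (Γg M T' : Type u) :=
  ((gdΦ M k).app (op ⊤)).hom

theorem gdH_comp (M : Fam S) {T T' T'' : Over S} (k : T'' ⟶ T') (l : T' ⟶ T) (t : Γg M T) :
    gdH M k (gdH M l t) = gdH M (k ≫ l) t :=
  Rows.gd_comp M k l t

theorem gdH_id (M : Fam S) {T : Over S} (t : Γg M T) : gdH M (𝟙 T) t = t :=
  gd_id M t

theorem gdH_congr (M : Fam S) {T T' : Over S} {k l : T' ⟶ T} (e : k = l) (t : Γg M T) :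
    gdH M k t = gdH M l t := by
  subst e; rfl

/-- The faces on the fibres. -/
noncomputable def δF (M : Fam S) (p : ℕ) (i : Fin (p + 2)) :
    (Γg M (fib x (N f p)) : Type u) →+ (Γg M (fib x (N f (p + 1))) : Type u) :=
  gdH M (T' := fib x (N f (p + 1))) (T := fib x (N f p)) ((fibF x).map (face f p i))

/-- The augmentation on global families of the fibre. -/
noncomputable def aF (M : Fam S) :
    (Γg M (fib x (top S)) : Type u) →+ (Γg M (fib x (N f 0)) : Type u) :=
  gdH M (T' := fib x (N f 0)) (T := fib x (top S)) ((fibF x).map (toTop (N f 0)))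

theorem fibDbl_d_apply (M : Fam S) (p q : ℕ) (z : (Γg (iter M q) (fib x (N f p)) : Type u)) :
    ((fibDbl f x M).d p (p + 1)).f q z =
      dd (E := fun p => (Γg (iter M q) (fib x (N f p)) : Type u)) (δF f x (iter M q)) p z := by
  rw [dd_apply]
  exact AltCx.alt_d_apply (fibY f x M) p q z

variable (M : Fam S) (x₀ : X) (hx₀ : f x₀ = x)

/-- The contraction. -/
noncomputable def sF (p : ℕ) : fib x (N f p) ⟶ fib x (N f (p + 1)) :=
  fibLift x (liftHom f (T := fib x (N f p))
    (Fin.cons (TopCat.ofHom (ContinuousMap.const _ x₀))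
      fun i => (fibι x (N f p)).left ≫ proj f p i)
    fun i => by
      induction i using Fin.cases with
      | zero =>
        rw [Fin.cons_zero]
        exact ConcreteCategory.hom_ext _ _ fun z => hx₀.trans z.2.symm
      | succ i =>
        rw [Fin.cons_succ, Category.assoc, proj_comp]
        exact Over.w (fibι x (N f p))) fun z => z.2

/-- The contraction at the augmentation. -/
noncomputable def sF₀ : fib x (top S) ⟶ fib x (N f 0) :=
  fibLift x (liftHom f (T := fib x (top S)) (fun _ => TopCat.ofHom (ContinuousMap.const _ x₀))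
    fun _ => ConcreteCategory.hom_ext _ _ fun z => hx₀.trans z.2.symm) fun z => z.2

theorem proj_sF_zero (p : ℕ) (z : (fib x (N f p)).left) :
    proj f (p + 1) 0 ((sF f x x₀ hx₀ p).left z).1 = x₀ :=
  liftHom_proj_apply f _ _ 0 (T := fib x (N f p)) z

theorem proj_sF_succ (p : ℕ) (z : (fib x (N f p)).left) (i : Fin (p + 1)) :
    proj f (p + 1) i.succ ((sF f x x₀ hx₀ p).left z).1 = proj f p i z.1 :=
  (liftHom_proj_apply f _ _ i.succ (T := fib x (N f p)) z).trans
    (by rw [Fin.cons_succ]; rfl)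

theorem proj_sF₀ (z : (fib x (top S)).left) :
    proj f 0 0 ((sF₀ f x x₀ hx₀).left z).1 = x₀ :=
  liftHom_proj_apply f _ _ 0 (T := fib x (top S)) z

theorem proj_face (p : ℕ) (i : Fin (p + 2)) (j : Fin (p + 1)) (z : (fib x (N f (p + 1))).left) :
    proj f p j (((fibF x).map (face f p i)).left z).1 = proj f (p + 1) (i.succAbove j) z.1 :=
  face_proj_apply f p i j z.1

theorem hom_ext_fib {p : ℕ} {T : Over S} {a b : T ⟶ fib x (N f p)}
    (h : ∀ z i, proj f p i (a.left z).1 = proj f p i (b.left z).1) : a = b :=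
  Over.OverMorphism.ext (ConcreteCategory.hom_ext _ _ fun z => Subtype.ext (point_ext f (h z)))

theorem hom_ext_top {T : Over S} (a b : T ⟶ fib x (top S)) : a = b :=
  Over.OverMorphism.ext (ConcreteCategory.hom_ext _ _ fun z =>
    Subtype.ext ((a.left z).2.trans (b.left z).2.symm))

theorem fib_point_ext {p : ℕ} {y y' : (fib x (N f p)).left}
    (h : ∀ i, proj f p i y.1 = proj f p i y'.1) : y = y' :=
  Subtype.ext (point_ext f h)

theorem sF_face_zero (p : ℕ) (z : (fib x (N f p)).left) :
    ((fibF x).map (face f p 0)).left ((sF f x x₀ hx₀ p).left z) = z :=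
  fib_point_ext f x fun i => by
    refine (proj_face f x p 0 i ((sF f x x₀ hx₀ p).left z)).trans ?_
    rw [Fin.zero_succAbove]
    exact proj_sF_succ f x x₀ hx₀ p z i

theorem sF_face_succ (p : ℕ) (i : Fin (p + 2)) (z : (fib x (N f (p + 1))).left) :
    ((fibF x).map (face f (p + 1) i.succ)).left ((sF f x x₀ hx₀ (p + 1)).left z) =
      (sF f x x₀ hx₀ p).left (((fibF x).map (face f p i)).left z) :=
  fib_point_ext f x fun j => by
    refine (proj_face f x (p + 1) i.succ j ((sF f x x₀ hx₀ (p + 1)).left z)).trans ?_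
    induction j using Fin.cases with
    | zero =>
      rw [Fin.succ_succAbove_zero]
      exact (proj_sF_zero f x x₀ hx₀ (p + 1) z).trans
        (proj_sF_zero f x x₀ hx₀ p (((fibF x).map (face f p i)).left z)).symm
    | succ j =>
      rw [Fin.succ_succAbove_succ]
      exact ((proj_sF_succ f x x₀ hx₀ (p + 1) z (i.succAbove j)).trans
        (proj_face f x p i j z).symm).trans
        (proj_sF_succ f x x₀ hx₀ p (((fibF x).map (face f p i)).left z) j).symm

theorem sF_face_one (z : (fib x (N f 0)).left) :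
    ((fibF x).map (face f 0 1)).left ((sF f x x₀ hx₀ 0).left z) =
      (sF₀ f x x₀ hx₀).left (((fibF x).map (toTop (N f 0))).left z) :=
  fib_point_ext f x fun i => by
    obtain rfl : i = 0 := Fin.ext (by omega)
    refine (proj_face f x 0 1 0 ((sF f x x₀ hx₀ 0).left z)).trans ?_
    exact (proj_sF_zero f x x₀ hx₀ 0 z).trans
      (proj_sF₀ f x x₀ hx₀ (((fibF x).map (toTop (N f 0))).left z)).symm

theorem over_ext {A B : Over S} {a b : A ⟶ B} (h : ∀ z, a.left z = b.left z) : a = b :=
  Over.OverMorphism.ext (ConcreteCategory.hom_ext _ _ h)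

include hx₀ in
/-- The rows over a point are exact. -/
theorem rowExact :
    Function.Injective (aF f x M) ∧
    (∀ t, dd (E := fun p => (Γg M (fib x (N f p)) : Type u)) (δF f x M) 0 t = 0 →
      ∃ y, aF f x M y = t) ∧
    ∀ p t, dd (E := fun p => (Γg M (fib x (N f p)) : Type u)) (δF f x M) (p + 1) t = 0 →
      ∃ w, dd (E := fun p => (Γg M (fib x (N f p)) : Type u)) (δF f x M) p w = t := by
  let h : ∀ p, (Γg M (fib x (N f (p + 1))) : Type u) →+ (Γg M (fib x (N f p)) : Type u) :=
    fun p => gdH M (sF f x x₀ hx₀ p)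
  let h₀ : (Γg M (fib x (N f 0)) : Type u) →+ (Γg M (fib x (top S)) : Type u) :=
    gdH M (sF₀ f x x₀ hx₀)
  have h_zero : ∀ p t, h p (δF f x M p 0 t) = t := fun p t => by
    have e : sF f x x₀ hx₀ p ≫ (fibF x).map (face f p 0) = 𝟙 (fib x (N f p)) :=
      over_ext fun z => sF_face_zero f x x₀ hx₀ p z
    exact (gdH_comp M _ _ t).trans ((gdH_congr M e t).trans (gdH_id M t))
  have h_succ : ∀ p i t, h (p + 1) (δF f x M (p + 1) i.succ t) = δF f x M p i (h p t) := fun p i t => by
    have e : sF f x x₀ hx₀ (p + 1) ≫ (fibF x).map (face f (p + 1) i.succ) =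
        (fibF x).map (face f p i) ≫ sF f x x₀ hx₀ p :=
      over_ext fun z => sF_face_succ f x x₀ hx₀ p i z
    exact (gdH_comp M _ _ t).trans ((gdH_congr M e t).trans (gdH_comp M _ _ t).symm)
  have h_one : ∀ t, h 0 (δF f x M 0 1 t) = aF f x M (h₀ t) := fun t => by
    have e : sF f x x₀ hx₀ 0 ≫ (fibF x).map (face f 0 1) =
        (fibF x).map (toTop (N f 0)) ≫ sF₀ f x x₀ hx₀ :=
      over_ext fun z => sF_face_one f x x₀ hx₀ z
    exact (gdH_comp M _ _ t).trans ((gdH_congr M e t).trans (gdH_comp M _ _ t).symm)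
  have h_a : ∀ y, h₀ (aF f x M y) = y := fun y =>
    (gdH_comp M _ _ y).trans ((gdH_congr M (hom_ext_top x _ (𝟙 _)) y).trans (gdH_id M y))
  exact ⟨Function.LeftInverse.injective h_a,
    fun t ht => ⟨_, exact_zero (E := fun p => (Γg M (fib x (N f p)) : Type u)) (δF f x M) h
      (aF f x M) h₀ h_zero h_one t ht⟩,
    fun p t ht => ⟨_, exact_succ (E := fun p => (Γg M (fib x (N f p)) : Type u)) (δF f x M) h
      h_zero h_succ p t ht⟩⟩

theorem fibAug_d (q : ℕ) (y : (Γg (iter M q) (fib x (top S)) : Type u)) :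
    ((fibDbl f x M).d 0 1).f q ((fibAug f x M).f q y) = 0 := by
  refine (fibDbl_d_apply f x M 0 q (aF f x (iter M q) y)).trans ?_
  rw [dd_apply, Fin.sum_univ_two]
  have h : ∀ i, δF f x (iter M q) 0 i (aF f x (iter M q) y) =
      gdH (iter M q) (T' := fib x (N f 1)) (T := fib x (top S))
        ((fibF x).map (toTop (N f 1))) y :=
    fun i => (gdH_comp (iter M q) _ _ y).trans (gdH_congr (iter M q) (hom_ext_top x _ _) y)
  rw [h, h]
  simp
  rfl


end Groth.Agent.CohTop.Proper.FibreRows
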