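import Groth.Agent.CohTop.Proper.Fibre

/-!
# Godement complexes pushed to the base

`pcx` : the functor `T ↦ (T → S)_* GSCx`; `fib` : fibres over a point; `Φ` : from the stalk at `x` to
the Godement complex of the fibre; `col_inj`, `col_exact` : `Φ` is a quasi-isomorphism for closed maps.
-/

universe u

open CategoryTheory CategoryTheory.Limits Opposite TopologicalSpace

namespace Groth.Agent.CohTop.Proper.PCx

open Groth.Agent.CohTop.Descent Groth.Agent.CohTop.Descent.Fam Groth.Agent.CohTop.Proper.Extend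
  Groth.Agent.CohTop.Proper.Fibre

variable {S : TopCat.{u}} (M : Fam S)

/-- The map on pushforwards. -/
noncomputable def pmap {T' T : Over S} (k : T' ⟶ T) (q : ℕ) :
    (CohTop.push T.hom).obj (GS M q T) ⟶ (CohTop.push T'.hom).obj (GS M q T') :=
  ⟨{ app := fun V => AddCommGrpCat.ofHom (AddMonoidHom.mk'
      (fun s (z : (Opens.map T'.hom).obj V.unop) => sm (iter M q) k z.1
        (s ⟨k.left z.1, show T.hom (k.left z.1) ∈ V.unop from
          (Base.over_w k z.1).symm ▸ z.2⟩))
      fun _ _ => funext fun _ => map_add _ _ _)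
     naturality := fun _ _ _ => rfl }⟩

theorem pmap_d {T' T : Over S} (k : T' ⟶ T) (q : ℕ) :
    pmap M k q ≫ (CohTop.push T'.hom).map (dGS M q T') =
      (CohTop.push T.hom).map (dGS M q T) ≫ pmap M k (q + 1) := by
  apply CategoryTheory.Sheaf.hom_ext
  ext1
  funext V
  refine ConcreteCategory.hom_ext _ _ fun s => ?_
  have hle : (Opens.map T'.hom).obj V.unop ≤ (Opens.map k.left).obj ((Opens.map T.hom).obj V.unop) :=
    fun x hx => show T.hom (k.left x) ∈ V.unop from (Base.over_w k x).symm ▸ hx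
  have h1 := congrArg (rs (GS M (q + 1) T') hle) (dGS_naturality M q k ((Opens.map T.hom).obj V.unop) s)
  refine Eq.trans ?_ h1.symm
  exact ConcreteCategory.congr_hom ((dGS M q T').hom.naturality (homOfLE hle).op)
    ((gdΦ (iter M q) k).app (op ((Opens.map T.hom).obj V.unop)) s)

/-- The pushforwards of the Godement complexes, as a functor. -/
noncomputable def pcx : (Over S)ᵒᵖ ⥤ CochainComplex (CohTop.Ab S) ℕ where
  obj T := CochainComplex.of (fun q => (CohTop.push T.unop.hom).obj (GS M q T.unop))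
    (fun q => (CohTop.push T.unop.hom).map (dGS M q T.unop))
    fun q => by rw [← Functor.map_comp, dGS_comp, Functor.map_zero]
  map {T T'} h := CochainComplex.ofHom (fun q => pmap M h.unop q) fun q => by
    simp only [CochainComplex.of_d]
    exact pmap_d M h.unop q
  map_id T := by
    refine HomologicalComplex.hom_ext _ _ fun q => ?_
    apply CategoryTheory.Sheaf.hom_ext
    ext1
    funext V
    exact ConcreteCategory.hom_ext _ _ fun s => funext fun x => sm_id (iter M q) x.1 _
  map_comp {T T' T''} h k := by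
    refine HomologicalComplex.hom_ext _ _ fun q => ?_
    apply CategoryTheory.Sheaf.hom_ext
    ext1
    funext V
    exact ConcreteCategory.hom_ext _ _ fun s => funext fun x => sm_comp (iter M q) k.unop h.unop x.1 _

theorem pcx_d (T : (Over S)ᵒᵖ) (q : ℕ) :
    ((pcx M).obj T).d q (q + 1) = (CohTop.push T.unop.hom).map (dGS M q T.unop) :=
  CochainComplex.of_d (fun q => (CohTop.push T.unop.hom).obj (GS M q T.unop))
    (fun q => (CohTop.push T.unop.hom).map (dGS M q T.unop)) q

variable (x : S)

/-- The fibre over `x`. -/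
noncomputable abbrev fib (T : Over S) : Over S :=
  Over.mk (TopCat.ofHom ⟨fun z : {z : T.left // T.hom z = x} => T.hom z.1, by fun_prop⟩ :
    TopCat.of {z : T.left // T.hom z = x} ⟶ S)

/-- The inclusion of the fibre. -/
noncomputable abbrev fibι (T : Over S) : fib x T ⟶ T :=
  Over.homMk (TopCat.ofHom ⟨fun z : {z : T.left // T.hom z = x} => z.1, by fun_prop⟩) rfl

theorem fib_ext {T A : Over S} {a b : T ⟶ fib x A}
    (h : a ≫ fibι x A = b ≫ fibι x A) : a = b :=
  Over.OverMorphism.ext (ConcreteCategory.hom_ext _ _ fun z =>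
    Subtype.ext (ConcreteCategory.congr_hom (congrArg (fun φ => φ.left) h) z))

/-- A map to the fibre. -/
noncomputable def fibLift {T A : Over S} (k : T ⟶ A) (hT : ∀ z, T.hom z = x) : T ⟶ fib x A :=
  Over.homMk (TopCat.ofHom ⟨fun z => (⟨k.left z, (Base.over_w k z).trans (hT z)⟩ :
      {z : A.left // A.hom z = x}), by fun_prop⟩)
    (ConcreteCategory.hom_ext _ _ fun z => Base.over_w k z)

theorem fibLift_ι {T A : Over S} (k : T ⟶ A) (hT : ∀ z, T.hom z = x) :
    fibLift x k hT ≫ fibι x A = k :=
  Over.OverMorphism.ext (ConcreteCategory.hom_ext _ _ fun _ => rfl)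

/-- The fibre as a functor. -/
noncomputable def fibF : Over S ⥤ Over S where
  obj T := fib x T
  map {T A} k := fibLift x (fibι x T ≫ k) fun z => z.2
  map_id T := fib_ext x (by rw [fibLift_ι, Category.comp_id, Category.id_comp])
  map_comp k l := fib_ext x (by
    rw [fibLift_ι, Category.assoc, fibLift_ι, ← Category.assoc (fibLift x _ _), fibLift_ι,
      Category.assoc])

theorem fibι_mem (T : Over S) {V : Opens S} (hV : x ∈ V) (z : (fib x T).left) :
    (fibι x T).left z ∈ (Opens.map T.hom).obj V :=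
  show T.hom z.1 ∈ V from z.2.symm ▸ hV

/-- From the stalk to the fibre. -/
noncomputable def Φq (T : Over S) (q : ℕ) :
    TopCat.Presheaf.stalk (C := AddCommGrpCat.{u}) (X := S) ((CohTop.push T.hom).obj (GS M q T)).obj x ⟶
      (GS M q (fib x T)).obj.obj (op ⊤) :=
  colimit.desc _ ((show Cocone ((OpenNhds.inclusion x).op ⋙
      ((CohTop.push T.hom).obj (GS M q T)).obj) from
    { pt := (GS M q (fib x T)).obj.obj (op ⊤)
      ι :=
        { app := fun V => (gdΦ (iter M q) (fibι x T)).app (op ((Opens.map T.hom).obj V.unop.1)) ≫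
            (GS M q (fib x T)).obj.map (homOfLE (fun z _ => fibι_mem x T V.unop.2 z :
              (⊤ : Opens (fib x T).left) ≤ (Opens.map (fibι x T).left).obj
                ((Opens.map T.hom).obj V.unop.1))).op
          naturality := fun V W i => ConcreteCategory.hom_ext _ _ fun s => rfl } }))

theorem Φq_germ (T : Over S) (q : ℕ) (V : Opens S) (hV : x ∈ V)
    (s : ((CohTop.push T.hom).obj (GS M q T)).obj.obj (op V)) :
    Φq M x T q (TopCat.Presheaf.germ ((CohTop.push T.hom).obj (GS M q T)).obj V x hV s) =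
      rs (GS M q (fib x T)) (fun z _ => fibι_mem x T hV z :
        (⊤ : Opens (fib x T).left) ≤ (Opens.map (fibι x T).left).obj ((Opens.map T.hom).obj V))
        ((gdΦ (iter M q) (fibι x T)).app (op ((Opens.map T.hom).obj V)) s) := by
  unfold Φq TopCat.Presheaf.germ
  erw [colimit.ι_desc_apply]
  rfl

theorem Φq_d (T : Over S) (q : ℕ) :
    Φq M x T q ≫ (dGS M q (fib x T)).hom.app (op ⊤) =
      (TopCat.Presheaf.stalkFunctor AddCommGrpCat.{u} x).map
        ((CohTop.push T.hom).map (dGS M q T)).hom ≫ Φq M x T (q + 1) := by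
  refine TopCat.Presheaf.stalk_hom_ext _ fun V hV => ?_
  refine ConcreteCategory.hom_ext _ _ fun s => ?_
  change (dGS M q (fib x T)).hom.app (op ⊤) (Φq M x T q _) = Φq M x T (q + 1) _
  refine (congrArg _ (Φq_germ M x T q V hV s)).trans (Eq.trans ?_ (congrArg _
    (TopCat.Presheaf.stalkFunctor_map_germ_apply V x hV
      ((CohTop.push T.hom).map (dGS M q T)).hom s)).symm)
  refine Eq.trans ?_ (Φq_germ M x T (q + 1) V hV _).symm
  have hle : (⊤ : Opens (fib x T).left) ≤
      (Opens.map (fibι x T).left).obj ((Opens.map T.hom).obj V) := fun z _ => fibι_mem x T hV z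
  have hn := ConcreteCategory.congr_hom ((dGS M q (fib x T)).hom.naturality (homOfLE hle).op)
    ((gdΦ (iter M q) (fibι x T)).app (op ((Opens.map T.hom).obj V)) s)
  refine hn.trans ?_
  exact congrArg (rs _ _) (dGS_naturality M q (fibι x T) _ s).symm

theorem Φq_nat {T' T : Over S} (k : T' ⟶ T) (q : ℕ) :
    (TopCat.Presheaf.stalkFunctor AddCommGrpCat.{u} x).map (pmap M k q).hom ≫ Φq M x T' q =
      Φq M x T q ≫ (gdΦ (iter M q) ((fibF x).map k)).app (op ⊤) := by
  refine TopCat.Presheaf.stalk_hom_ext _ fun V hV => ?_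
  refine ConcreteCategory.hom_ext _ _ fun s => ?_
  change Φq M x T' q _ = (gdΦ (iter M q) ((fibF x).map k)).app (op ⊤) (Φq M x T q _)
  refine ((congrArg _ (TopCat.Presheaf.stalkFunctor_map_germ_apply V x hV (pmap M k q).hom s)).trans
    (Φq_germ M x T' q V hV _)).trans (Eq.trans ?_ (congrArg _ (Φq_germ M x T q V hV s)).symm)
  refine funext fun z => ?_
  have h1 := sm_comp (iter M q) (fibι x T') k z.1
  have h2 := sm_comp (iter M q) ((fibF x).map k) (fibι x T) z.1
  refine (h1 _).symm.trans (Eq.trans ?_ (h2 _))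
  rfl

/-- Stalks of the pushed complexes. -/
noncomputable abbrev stC : (Over S)ᵒᵖ ⥤ CochainComplex AddCommGrpCat.{u} ℕ :=
  pcx M ⋙ (TopCat.Sheaf.forget AddCommGrpCat.{u} S ⋙
    TopCat.Presheaf.stalkFunctor AddCommGrpCat.{u} x).mapHomologicalComplex _

/-- The comparison with the fibres. -/
noncomputable def Φ : stC M x ⟶ (fibF x).op ⋙ cx M where
  app T :=
    { f := fun q => Φq M x T.unop q
      comm' := fun q j h => by
        obtain rfl : q + 1 = j := h
        refine Eq.trans ?_ (congrArg (· ≫ _) (congrArg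
          (TopCat.Sheaf.forget AddCommGrpCat.{u} S ⋙
            TopCat.Presheaf.stalkFunctor AddCommGrpCat.{u} x).map (pcx_d M T q)).symm)
        refine (congrArg (Φq M x T.unop q ≫ ·) ?_).trans (Φq_d M x T.unop q)
        exact CochainComplex.of_d (fun q => (GS M q (fib x T.unop)).obj.obj (op ⊤))
          (fun q => (dGS M q (fib x T.unop)).hom.app (op ⊤)) q }
  naturality T T' k := by
    refine HomologicalComplex.hom_ext _ _ fun q => ?_
    exact Φq_nat M x k.unop q

theorem cx_d (T : (Over S)ᵒᵖ) (q : ℕ) :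
    ((cx M).obj T).d q (q + 1) = (dGS M q T.unop).hom.app (op ⊤) :=
  CochainComplex.of_d (fun q => (GS M q T.unop).obj.obj (op ⊤))
    (fun q => (dGS M q T.unop).hom.app (op ⊤)) q

section Proper

variable (F : CohTop.Ab S) (T : Over S) (hc : IsClosedMap T.hom)
  [CompactSpace (fib x T).left] (hs : Extend.Sep (fibι x T).left)

omit [CompactSpace (fib x T).left] in
theorem isInducing_fibι : Topology.IsInducing (fibι x T).left :=
  Topology.IsInducing.subtypeVal

include hc in
omit [CompactSpace (fib x T).left] in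
/-- A neighbourhood of the fibre contains the preimage of a neighbourhood. -/
theorem exists_base_nhd (U : Opens T.left) (hU : ∀ z, (fibι x T).left z ∈ U) :
    ∃ V : Opens S, x ∈ V ∧ (Opens.map T.hom).obj V ≤ U := by
  refine ⟨⟨(T.hom '' (U : Set T.left)ᶜ)ᶜ, (hc _ U.2.isClosed_compl).isOpen_compl⟩, ?_, ?_⟩
  · rintro ⟨z, hz, e⟩
    exact hz (hU ⟨z, e⟩)
  · intro z hz
    by_contra h
    exact hz ⟨z, h, rfl⟩

include hc hs in
/-- Lifting of cocycles and of coboundaries. -/
theorem lift_and_near (q : ℕ) :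
    (∀ z : (GS (Base.base F) q (fib x T)).obj.obj (op ⊤),
      (dGS (Base.base F) q (fib x T)).hom.app (op ⊤) z = 0 →
      ∃ (a : ((stC (Base.base F) x).obj (op T)).X q)
        (w : ((cx (Base.base F)).obj (op (fib x T))).X ((ComplexShape.up ℕ).prev q)),
        ((stC (Base.base F) x).obj (op T)).d q (q + 1) a = 0 ∧
        ((cx (Base.base F)).obj (op (fib x T))).d ((ComplexShape.up ℕ).prev q) q w =
          Φq (Base.base F) x T q a - z) ∧
    (∀ (a : ((stC (Base.base F) x).obj (op T)).X q)
      (y : ((cx (Base.base F)).obj (op (fib x T))).X ((ComplexShape.up ℕ).prev q)),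
      ((stC (Base.base F) x).obj (op T)).d q (q + 1) a = 0 →
      ((cx (Base.base F)).obj (op (fib x T))).d ((ComplexShape.up ℕ).prev q) q y =
        Φq (Base.base F) x T q a →
      ∃ b, ((stC (Base.base F) x).obj (op T)).d ((ComplexShape.up ℕ).prev q) q b = a) := by
  have hdd : ∀ i, ((cx (Base.base F)).obj (op (fib x T))).d i q =
      ((GSCx (Base.base F) (fib x T)).d i q).hom.app (op ⊤) := by
    intro i
    by_cases h : i + 1 = q
    · subst h; rw [cx_d, Compute.GSCx_d]
    · rw [HomologicalComplex.shape _ _ _ h, HomologicalComplex.shape _ _ _ h]; rfl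
  have hst : ∀ i (V : Opens S) (hV : x ∈ V) (s : ((CohTop.push T.hom).obj (GS (Base.base F) i T)).obj.obj (op V)),
      ((stC (Base.base F) x).obj (op T)).d i q
        (TopCat.Presheaf.germ ((CohTop.push T.hom).obj (GS (Base.base F) i T)).obj V x hV s) =
      TopCat.Presheaf.germ ((CohTop.push T.hom).obj (GS (Base.base F) q T)).obj V x hV
        (((GSCx (Base.base F) T).d i q).hom.app (op ((Opens.map T.hom).obj V)) s) := by
    intro i V hV s
    refine (TopCat.Presheaf.stalkFunctor_map_germ_apply V x hV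
      (((pcx (Base.base F)).obj (op T)).d i q).hom s).trans (congrArg _ ?_)
    by_cases h : i + 1 = q
    · subst h; rw [pcx_d, Compute.GSCx_d]; rfl
    · rw [HomologicalComplex.shape _ _ _ h, HomologicalComplex.shape _ _ _ h]; rfl
  have hnext : ∀ (V : Opens S) (hV : x ∈ V) (s : ((CohTop.push T.hom).obj (GS (Base.base F) q T)).obj.obj (op V)),
      ((stC (Base.base F) x).obj (op T)).d q (q + 1)
        (TopCat.Presheaf.germ ((CohTop.push T.hom).obj (GS (Base.base F) q T)).obj V x hV s) =
      TopCat.Presheaf.germ ((CohTop.push T.hom).obj (GS (Base.base F) (q + 1) T)).obj V x hV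
        ((dGS (Base.base F) q T).hom.app (op ((Opens.map T.hom).obj V)) s) := by
    intro V hV s
    refine (TopCat.Presheaf.stalkFunctor_map_germ_apply V x hV
      (((pcx (Base.base F)).obj (op T)).d q (q + 1)).hom s).trans (congrArg _ ?_)
    rw [pcx_d]; rfl
  have hi := isInducing_fibι x T
  obtain ⟨hlift, hnear⟩ := Fibre.cx_lift_near F (fibι x T) hi hs q
  refine ⟨fun z hz => ?_, fun a y ha hy => ?_⟩
  · obtain ⟨U, hU, s, hs0, w, hw⟩ := hlift z hz
    obtain ⟨V, hV, hle⟩ := exists_base_nhd x T hc U hU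
    refine ⟨TopCat.Presheaf.germ ((CohTop.push T.hom).obj (GS (Base.base F) q T)).obj V x hV
      (rs (GS (Base.base F) q T) hle s), w, ?_, ?_⟩
    · rw [hnext]
      have h0 : (dGS (Base.base F) q T).hom.app (op ((Opens.map T.hom).obj V))
          (rs (GS (Base.base F) q T) hle s) = 0 :=
        (ConcreteCategory.congr_hom ((dGS (Base.base F) q T).hom.naturality (homOfLE hle).op) s).trans
          ((congrArg (rs _ hle) hs0).trans (map_zero ((GS (Base.base F) (q + 1) T).obj.map (homOfLE hle).op).hom))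
      exact (congrArg _ h0).trans (map_zero _)
    · rw [hdd]
      erw [hw, Φq_germ]
      rfl
  · obtain ⟨V, hV, s, rfl⟩ := TopCat.Presheaf.exists_germ_eq
      ((CohTop.push T.hom).obj (GS (Base.base F) q T)).obj a
    rw [hnext] at ha
    obtain ⟨V₁, hV₁, i₁, h₁⟩ := exists_zero_near _ x V hV _ ha
    have hU : ∀ z, (fibι x T).left z ∈ (Opens.map T.hom).obj V₁ := fibι_mem x T hV₁
    have hle₁ : (Opens.map T.hom).obj V₁ ≤ (Opens.map T.hom).obj V := fun z hz => i₁ hz
    have hs₁ : (dGS (Base.base F) q T).hom.app (op ((Opens.map T.hom).obj V₁))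
        (rs (GS (Base.base F) q T) hle₁ s) = 0 :=
      (ConcreteCategory.congr_hom ((dGS (Base.base F) q T).hom.naturality (homOfLE hle₁).op) s).trans h₁
    rw [hdd, Φq_germ] at hy
    obtain ⟨U', hle', hU', v, hv⟩ := hnear _ hU (rs (GS (Base.base F) q T) hle₁ s) hs₁ y hy
    obtain ⟨V', hV', hle''⟩ := exists_base_nhd x T hc U' hU'
    refine ⟨TopCat.Presheaf.germ ((CohTop.push T.hom).obj (GS (Base.base F) _ T)).obj (V' ⊓ V₁) x
      ⟨hV', hV₁⟩ (rs (GS (Base.base F) _ T)
        ((fun z hz => hle'' hz.1 : (Opens.map T.hom).obj (V' ⊓ V₁) ≤ U')) v), ?_⟩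
    rw [hst]
    have h2 : ((GSCx (Base.base F) T).d ((ComplexShape.up ℕ).prev q) q).hom.app
        (op ((Opens.map T.hom).obj (V' ⊓ V₁))) (rs (GS (Base.base F) _ T)
          ((fun z hz => hle'' hz.1 : (Opens.map T.hom).obj (V' ⊓ V₁) ≤ U')) v) =
        rs (GS (Base.base F) q T) ((fun z hz => i₁ hz.2 :
          (Opens.map T.hom).obj (V' ⊓ V₁) ≤ (Opens.map T.hom).obj V)) s := by
      have hle₃ : (Opens.map T.hom).obj (V' ⊓ V₁) ≤ U' := fun z hz => hle'' hz.1
      refine (ConcreteCategory.congr_hom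
        (((GSCx (Base.base F) T).d _ q).hom.naturality (homOfLE hle₃).op) v).trans ?_
      exact congrArg (rs (GS (Base.base F) q T) hle₃) hv
    refine (congrArg _ h2).trans ?_
    exact TopCat.Presheaf.germ_res_apply ((CohTop.push T.hom).obj (GS (Base.base F) q T)).obj
      (homOfLE (fun z hz => i₁ hz.2 : V' ⊓ V₁ ≤ V)) x ⟨hV', hV₁⟩ s

end Proper

end Groth.Agent.CohTop.Proper.PCx
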