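import Groth.Agent.CohTop.Proper.Fibre

/-!
# Godement complexes on a point
-/

universe u

open CategoryTheory CategoryTheory.Limits Opposite TopologicalSpace

namespace Groth.Agent.CohTop.Proper.Point

open Groth.Agent.CohTop.Descent Groth.Agent.CohTop.Descent.Fam Groth.Agent.CohTop.Proper.Extend
  Groth.Agent.CohTop.Proper.Soft

theorem isFlasque_of_subsingleton {P : TopCat.{u}} [Subsingleton P] (G : CohTop.Ab P) :
    TopCat.Sheaf.IsFlasque G where
  epi {U V} i := by
    by_cases h : (V.unop : Set P).Nonempty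
    · obtain ⟨v, hv⟩ := h
      have h : U.unop ≤ V.unop := fun x _ => Subsingleton.elim v x ▸ hv
      have : IsIso i := ⟨(homOfLE h).op, Subsingleton.elim _ _, Subsingleton.elim _ _⟩
      infer_instance
    · rw [AddCommGrpCat.epi_iff_surjective]
      refine fun t => ⟨0, (map_zero _).trans (TopCat.Presheaf.section_ext G V.unop _ _ ?_)⟩
      exact fun x hx => absurd ⟨x, hx⟩ h

variable {S : TopCat.{u}} (F : CohTop.Ab S) (T : Over S)

theorem ηsec_nat {T' T : Over S} (k : T' ⟶ T) (U : Opens S) (a : F.obj.obj (op U))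
    (z : T'.left) (hz : T'.hom z ∈ U) (hz' : T.hom (k.left z) ∈ U) :
    sm (Base.base F) k z ((Groth.Agent.CohAff.ηPre (Base.germsPre F T)).app
        (op ((Opens.map T.hom).obj U)) (Base.secGerms F T U a) ⟨k.left z, hz'⟩) =
      (Groth.Agent.CohAff.ηPre (Base.germsPre F T')).app
        (op ((Opens.map T'.hom).obj U)) (Base.secGerms F T' U a) ⟨z, hz⟩ := by
  refine (sm_germ (Base.base F) k z ((Opens.map T.hom).obj U) hz' _).trans ?_
  have hle : (Opens.map T'.hom).obj U ≤ (Opens.map k.left).obj ((Opens.map T.hom).obj U) :=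
    fun y (hy : T'.hom y ∈ U) => show T.hom (k.left y) ∈ U from (Base.over_w k y).symm ▸ hy
  refine (TopCat.Presheaf.germ_res_apply (Base.germsPre F T') (homOfLE hle) z hz _).symm.trans
    (congrArg ((Base.germsPre F T').germ _ z hz) ?_)
  exact Subtype.ext (funext fun y => Base.tr_germ F (Base.over_w k y.1) U _ a)

variable [Subsingleton T.left] (pt : T.left)

include pt in
theorem exists_eq_ηsec (z : (GS (Base.base F) 0 T).obj.obj (op ⊤))
    (hz : (dGS (Base.base F) 0 T).hom.app (op ⊤) z = 0) :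
    ∃ (U : Opens S) (hU : ∀ y, T.hom y ∈ U) (a : F.obj.obj (op U)),
      ∀ y, z ⟨y, trivial⟩ = (Groth.Agent.CohAff.ηPre (Base.germsPre F T)).app
        (op ((Opens.map T.hom).obj U)) (Base.secGerms F T U a) ⟨y, hU y⟩ := by
  have h0 : stk (dGS (Base.base F) 0 T) pt (gm (GS (Base.base F) 0 T) z pt trivial) = 0 :=
    (gm_app (dGS (Base.base F) 0 T) z pt trivial).trans
      ((congrArg (fun t => gm (GS (Base.base F) 1 T) (U := ⊤) t pt trivial) hz).trans (map_zero _))
  obtain ⟨t, ht⟩ := Base.ι_stalk_exact F T pt _ h0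
  obtain ⟨t₀, rfl⟩ := Base.σ_surjective F T pt t
  obtain ⟨U, hU, a, rfl⟩ := TopCat.Presheaf.exists_germ_eq F.obj t₀
  refine ⟨U, fun y => Subsingleton.elim pt y ▸ hU, a, ?_⟩
  have e2 : Base.σ F T pt (TopCat.Presheaf.germ F.obj U (T.hom pt) hU a) =
      gm _ (Base.unit F T U a) pt hU :=
    ConcreteCategory.congr_hom (Base.σ_germ F T pt U hU) a
  have r1 : gm (GS (Base.base F) 0 T) ((Groth.Agent.CohAff.ηPre (Base.germsPre F T)).app
        (op ((Opens.map T.hom).obj U)) (Base.secGerms F T U a)) pt hU =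
      gm (GS (Base.base F) 0 T) z pt trivial := by
    refine Eq.trans ?_ ht
    refine Eq.trans ?_ (congrArg (stk (Base.ι F T) pt) e2).symm
    exact (congrArg (fun s => gm (GS (Base.base F) 0 T) s pt hU) (Base.unit_ι F T U a)).symm.trans
      (gm_app (Base.ι F T) _ pt hU).symm
  obtain ⟨W, hW, i₁, i₂, e⟩ := TopCat.Presheaf.germ_eq (F := (GS (Base.base F) 0 T).obj) pt hU
    (show pt ∈ (⊤ : Opens T.left) from trivial) _ _ r1
  intro y
  obtain rfl := Subsingleton.elim pt y
  exact (congrFun e ⟨pt, hW⟩).symm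

theorem exists_eq_d (q : ℕ) (z : ((cx (Base.base F)).obj (op T)).X (q + 1))
    (hz : ((cx (Base.base F)).obj (op T)).d (q + 1) (q + 1 + 1) z = 0) :
    ∃ w, ((cx (Base.base F)).obj (op T)).d q (q + 1) w = z := by
  let L := (cx (Base.base F)).obj (op T)
  obtain ⟨e⟩ := Compute.homology_cx_iso F T (q + 1)
  have : TopCat.Sheaf.IsFlasque ((CohTop.pull T.hom).obj F) := isFlasque_of_subsingleton _
  have := Flasque.H_subsingleton ((CohTop.pull T.hom).obj F) q
  have : Subsingleton (AddCommGrpCat.of (CohTop.H ((CohTop.pull T.hom).obj F) (q + 1)) : Type u) :=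
    this
  obtain ⟨c, hc⟩ := TotExact.exists_cycles L (CochainComplex.next ℕ (q + 1)) z hz
  have h0 : L.homologyπ (q + 1) c = 0 := by
    have := (AddCommGrpCat.isZero_of_subsingleton _).of_iso e
    exact @Subsingleton.elim _ (AddCommGrpCat.subsingleton_of_isZero this) _ _
  obtain ⟨w, hw⟩ := (TotExact.homologyπ_eq_zero_iff L (CochainComplex.prev_nat_succ q) c).1 h0
  exact ⟨w, hw.trans hc⟩

end Groth.Agent.CohTop.Proper.Point
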