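import Groth.Agent.CohTop.Proper.PCx
import Groth.Agent.CohTop.Descent.Nerve
import Mathlib.Topology.Maps.Proper.Basic
import Mathlib.Topology.LocalAtTarget

/-!
# Fibre powers of a proper map with separated fibres
-/

universe u

open CategoryTheory CategoryTheory.Limits Opposite TopologicalSpace

namespace Groth.Agent.CohTop.Proper.ProperNerve

open Groth.Agent.CohTop.Descent.Nerve Groth.Agent.CohTop.Proper.PCx

variable {X S : TopCat.{u}} (f : X ⟶ S) (p : ℕ)

theorem isProperMap_base (hf : IsProperMap f) : IsProperMap (N f p).hom := by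
  let Pf : (Fin (p + 1) → X) → (Fin (p + 1) → S) := fun c i => f (c i)
  have hP : IsProperMap Pf := IsProperMap.pi_map fun _ => hf
  let D : Set (Fin (p + 1) → S) := Set.range fun v _ => v
  have hD : ∀ c : Pf ⁻¹' D, ∀ i, f (c.1 i) = f (c.1 0) := by
    rintro ⟨c, v, hv⟩ i
    exact (congrFun hv i).symm.trans (congrFun hv 0)
  let E : Over S := Over.mk (TopCat.ofHom ⟨fun c : Pf ⁻¹' D => f (c.1 0),
    f.hom.continuous.comp ((continuous_apply 0).comp continuous_subtype_val)⟩ :
    TopCat.of (Pf ⁻¹' D) ⟶ S)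
  let ψ : E ⟶ N f p := liftHom f
    (fun i => (TopCat.ofHom ⟨fun c : Pf ⁻¹' D => c.1 i,
      (continuous_apply i).comp continuous_subtype_val⟩ : TopCat.of (Pf ⁻¹' D) ⟶ X))
    fun i => ConcreteCategory.hom_ext _ _ fun c => hD c i
  let φ : (N f p).left → Pf ⁻¹' D := fun z =>
    ⟨fun i => proj f p i z, (N f p).hom z, funext fun i => (f_proj f p i z).symm⟩
  let h : (N f p).left ≃ₜ Pf ⁻¹' D :=
    { toFun := φ
      invFun := fun c => ψ.left c
      left_inv := fun z => point_ext f fun i => liftHom_proj_apply f _ _ i _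
      right_inv := fun c => Subtype.ext (funext fun i => by
        exact liftHom_proj_apply f _ _ i (T := E) c)
      continuous_toFun := by fun_prop
      continuous_invFun := ψ.left.hom.continuous }
  have hR : IsProperMap (D.restrictPreimage Pf) := by
    refine isProperMap_iff_isClosedMap_and_compact_fibers.2 ⟨hP.continuous.restrictPreimage,
      IsClosedMap.restrictPreimage hP.isClosedMap D, fun d => ?_⟩
    rw [Topology.IsEmbedding.subtypeVal.isCompact_iff]
    convert hP.isCompact_preimage (isCompact_singleton (x := d.1))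
    ext c
    refine ⟨?_, fun hc => ⟨⟨c, show Pf c ∈ D from (show Pf c = d.1 from hc) ▸ d.2⟩, Subtype.ext hc, rfl⟩⟩
    rintro ⟨c, hc, rfl⟩
    exact congrArg Subtype.val hc
  let g : D ≃ₜ S :=
    { toFun := fun d => d.1 0
      invFun := fun v => ⟨fun _ => v, v, rfl⟩
      left_inv := fun d => by obtain ⟨d, v, rfl⟩ := d; rfl
      right_inv := fun v => rfl
      continuous_toFun := (continuous_apply 0).comp continuous_subtype_val
      continuous_invFun := by fun_prop }
  have key := (g.isProperMap.comp hR).comp h.isProperMap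
  have e : g ∘ D.restrictPreimage Pf ∘ h = (N f p).hom := funext fun z => f_proj f p 0 z
  exact e ▸ key

theorem isClosedMap_base (hf : IsProperMap f) : IsClosedMap (N f p).hom :=
  (isProperMap_base f p hf).isClosedMap

theorem compactSpace_fib (hf : IsProperMap f) (x : S) : CompactSpace (fib x (N f p)).left :=
  isCompact_iff_compactSpace.1
    (((isProperMap_iff_isClosedMap_and_compact_fibers.1 (isProperMap_base f p hf)).2.2) x)

theorem sep_fib (hs : ∀ x x' : X, f x = f x' → x ≠ x' →
      ∃ U V : Set X, IsOpen U ∧ IsOpen V ∧ x ∈ U ∧ x' ∈ V ∧ Disjoint U V) (x : S) :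
    Extend.Sep (fibι x (N f p)).left := by
  intro z z' hne
  obtain ⟨i, hi⟩ : ∃ i, proj f p i z.1 ≠ proj f p i z'.1 := by
    by_contra! h
    exact hne (Subtype.ext (point_ext f h))
  obtain ⟨U, V, hU, hV, hzU, hzV, hd⟩ := hs _ _
    ((f_proj f p i z.1).trans (z.2.trans (z'.2.symm.trans (f_proj f p i z'.1).symm))) hi
  refine ⟨⟨proj f p i ⁻¹' U, hU.preimage (proj f p i).hom.continuous⟩,
    ⟨proj f p i ⁻¹' V, hV.preimage (proj f p i).hom.continuous⟩, hzU, hzV, ?_⟩
  exact disjoint_iff.2 (Opens.ext (disjoint_iff.1 (hd.preimage (proj f p i))))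

end Groth.Agent.CohTop.Proper.ProperNerve
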