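import Groth.Agent.CohTop.Proper.FibreRows
import Groth.Agent.CohTop.Proper.ProperNerve
import Groth.Agent.CohTop.Proper.Point

/-!
# The resolution of a sheaf by the fibre powers of a proper surjection
-/

universe u

open CategoryTheory CategoryTheory.Limits Opposite TopologicalSpace Simplicial AlgebraicTopology

namespace Groth.Agent.CohTop.Proper.Resolution

open Groth.Agent.CohTop.Descent Groth.Agent.CohTop.Descent.Fam Groth.Agent.CohTop.Descent.Nerve
  Groth.Agent.CohTop.Proper.PCx Groth.Agent.CohTop.Proper.FibreRows Groth.Agent.CohTop.Descent.AltCx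

variable {X S : TopCat.{u}} (f : X ⟶ S) (F : CohTop.Ab S)

/-- The double complex of sheaves. -/
noncomputable abbrev dblS : AltCx.DC (CohTop.Ab S) :=
  AlternatingCofaceMapComplex.obj ((nerve f).rightOp ⋙ pcx (Base.base F))

/-- The augmentation towards one space. -/
noncomputable def augS (T : Over S) : F ⟶ (CohTop.push T.hom).obj (GS (Base.base F) 0 T) :=
  ObjectProperty.homMk (Base.baseUnit F T ≫
    (TopCat.Presheaf.pushforward AddCommGrpCat.{u} T.hom).map
      (Groth.Agent.CohAff.ηPre (Base.germsPre F T)))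

theorem augS_apply (T : Over S) (U : Opens S) (a : F.obj.obj (op U)) :
    (augS F T).hom.app (op U) a =
      (Groth.Agent.CohAff.ηPre (Base.germsPre F T)).app (op ((Opens.map T.hom).obj U))
        (Base.secGerms F T U a) := rfl

theorem augS_pmap {T' T : Over S} (k : T' ⟶ T) :
    augS F T ≫ pmap (Base.base F) k 0 = augS F T' := by
  apply CategoryTheory.Sheaf.hom_ext
  ext1
  funext U
  refine ConcreteCategory.hom_ext _ _ fun a => funext fun z => ?_
  exact Point.ηsec_nat F k U.unop a z.1 z.2 _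

theorem augS_d (T : Over S) : augS F T ≫ (CohTop.push T.hom).map (dGS (Base.base F) 0 T) = 0 := by
  apply CategoryTheory.Sheaf.hom_ext
  ext1
  funext U
  refine ConcreteCategory.hom_ext _ _ fun a => ?_
  show (Groth.Agent.CohAff.ηPre _).app _ ((qMk (Base.germsPre F T)).app _ _) = 0
  refine (congrArg _ ((qMk_eq_zero_iff (Base.germsPre F T) _ _).2
    ⟨Base.secGerms F T U.unop a, rfl⟩)).trans ?_
  exact map_zero _

/-- The augmentation. -/
noncomputable def jS : F ⟶ (totN (C := CohTop.Ab S) (dblS f F)).X 0 :=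
  augS F (N f 0) ≫ TotCx.ι (C := CohTop.Ab S) (dblS f F) ((0 : ℕ) : ℤ) 0 0 (by omega)

theorem jS_π : jS f F ≫ TotCx.π (C := CohTop.Ab S) (dblS f F) ((0 : ℕ) : ℤ) 0 0 (by omega) = augS F (N f 0) := by
  exact (Category.assoc _ _ _).trans
    ((congrArg (augS F (N f 0) ≫ ·) (TotCx.ι_π _ _ 0 0 _)).trans (Category.comp_id _))

theorem jS_d : jS f F ≫ (totN (C := CohTop.Ab S) (dblS f F)).d 0 1 = 0 := by
  rw [totN_d]
  refine TotCx.hom_ext (C := CohTop.Ab S) (dblS f F) fun p q h => ?_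
  rw [zero_comp, Category.assoc]
  rcases p with _ | p <;> rcases q with _ | q
  · exact absurd h (by omega)
  · obtain rfl : q = 0 := by omega
    rw [TotCx.d_π_zero_succ, ← Category.assoc]
    refine (congrArg (· ≫ _) (jS_π f F)).trans ?_
    exact (congrArg (augS F (N f 0) ≫ ·) (pcx_d (Base.base F) (op (N f 0)) 0)).trans
      (augS_d F (N f 0))
  · obtain rfl : p = 0 := by omega
    rw [TotCx.d_π_succ_zero, ← Category.assoc]
    refine (congrArg (· ≫ _) (jS_π f F)).trans ?_
    let Y : CosimplicialObject (CochainComplex (CohTop.Ab S) ℕ) :=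
      (nerve f).rightOp ⋙ pcx (Base.base F)
    let φ := HomologicalComplex.Hom.fAddMonoidHom (C₁ := Y.obj ⦋0⦌) (C₂ := Y.obj ⦋0 + 1⦌) 0
    have h1 : ((dblS f F).d 0 (0 + 1)).f 0 = φ (Y.δ 0) - φ (Y.δ 1) := by
      refine (congrArg (fun g : Y.obj ⦋0⦌ ⟶ Y.obj ⦋0 + 1⦌ => φ g) (alt_d Y 0)).trans ?_
      rw [map_sum, Fin.sum_univ_two]
      simp [map_neg, sub_eq_add_neg]
    have h2 : ∀ i, augS F (N f 0) ≫ (Y.δ i).f 0 = augS F (N f 1) := fun i =>
      augS_pmap F (face f 0 i)
    refine (congrArg (augS F (N f 0) ≫ ·) h1).trans ?_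
    refine (Preadditive.comp_sub _ _ _).trans ?_
    exact sub_eq_zero.2 ((h2 0).trans (h2 1).symm)
  · exact absurd h (by omega)

section Stalk

variable (x : S)

/-- The stalk functor. -/
noncomputable abbrev Stf : CohTop.Ab S ⥤ AddCommGrpCat.{u} :=
  TopCat.Sheaf.forget AddCommGrpCat.{u} S ⋙ TopCat.Presheaf.stalkFunctor AddCommGrpCat.{u} x

noncomputable instance : PreservesFiniteLimits (Stf (S := S) x) :=
  inferInstanceAs (PreservesFiniteLimits (TopCat.Sheaf.forget AddCommGrpCat.{u} S ⋙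
    TopCat.Presheaf.stalkFunctor AddCommGrpCat.{u} x))

instance : (Stf (S := S) x).Additive := Functor.additive_of_preserves_binary_products _

/-- From the stalks to the fibre. -/
noncomputable def φx : TotMap.map₂ (Stf x) (dblS f F) ⟶ fibDbl f x (Base.base F) :=
  (altIso ((Stf x).mapHomologicalComplex _) ((nerve f).rightOp ⋙ pcx (Base.base F))).hom ≫
    AlternatingCofaceMapComplex.map
      (Functor.whiskerLeft (nerve f).rightOp (Φ (Base.base F) x))

theorem φx_apply (p q : ℕ) (t : ((TotMap.map₂ (Stf x) (dblS f F)).X p).X q) :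
    ((φx f F x).f p).f q t = Φq (Base.base F) x (N f p) q t := rfl

variable (hf : IsProperMap f)
  (hs : ∀ x x' : X, f x = f x' → x ≠ x' →
    ∃ U V : Set X, IsOpen U ∧ IsOpen V ∧ x ∈ U ∧ x' ∈ V ∧ Disjoint U V)

include hf hs in
theorem colExact : TotMap.ColExact (φx f F x) := by
  have hh : ∀ p q, _ := fun p q =>
    have := ProperNerve.compactSpace_fib f p hf x
    PCx.lift_and_near x F (N f p) (ProperNerve.isClosedMap_base f p hf)
      (ProperNerve.sep_fib f p hs x) q
  refine ⟨fun p t ht h0 => ?_, fun p q t y ht hy => ?_⟩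
  · obtain ⟨b, hb⟩ := (hh p 0).2 t 0 ht ((map_zero _).trans h0.symm)
    rw [HomologicalComplex.shape _ _ _ (by simp)] at hb
    exact hb.symm
  · have h1 := (hh p (q + 1)).2
    rw [CochainComplex.prev_nat_succ] at h1
    obtain ⟨a₀, ha₀⟩ := h1 t y ht hy
    let z := ((φx f F x).f p).f q a₀ - y
    have hcomm : ((φx f F x).f p).f (q + 1) (((TotMap.map₂ (Stf x) (dblS f F)).X p).d q (q + 1) a₀) =
        ((fibDbl f x (Base.base F)).X p).d q (q + 1) (((φx f F x).f p).f q a₀) :=
      (ConcreteCategory.congr_hom (((φx f F x).f p).comm q (q + 1)) a₀).symm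
    have hz : ((fibDbl f x (Base.base F)).X p).d q (q + 1) z = 0 := by
      rw [map_sub, ← hcomm, sub_eq_zero]
      refine Eq.trans (congrArg _ ?_) hy.symm
      exact ha₀
    have hz' : (dGS (Base.base F) q (fib x (N f p))).hom.app (op ⊤) z = 0 :=
      (ConcreteCategory.congr_hom (PCx.cx_d (Base.base F) (op (fib x (N f p))) q) z).symm.trans hz
    obtain ⟨a₁, w, ha₁, hw⟩ := (hh p q).1 z hz'
    refine ⟨a₀ - a₁, -w, ?_, ?_⟩
    · exact (map_sub (((stC (Base.base F) x).obj (op (N f p))).d q (q + 1)).hom a₀ a₁).trans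
        ((congrArg₂ (· - ·) ha₀ ha₁).trans (sub_zero _))
    · refine Eq.trans ?_ (map_neg (((cx (Base.base F)).obj (op (fib x (N f p)))).d _ q).hom w).symm
      refine Eq.trans ?_ (congrArg Neg.neg hw).symm
      refine (congrArg (· - y) (map_sub (Φq (Base.base F) x (N f p) q).hom a₀ a₁)).trans ?_
      exact (sub_right_comm _ _ _).trans (neg_sub _ _).symm

variable (x₀ : X) (hx₀ : f x₀ = x)

include hx₀ in
theorem hexF (p q : ℕ) (z : ((fibDbl f x (Base.base F)).X (p + 1)).X q)
    (hz : ((fibDbl f x (Base.base F)).d (p + 1) (p + 1 + 1)).f q z = 0) :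
    ∃ w, ((fibDbl f x (Base.base F)).d p (p + 1)).f q w = z := by
  obtain ⟨w, hw⟩ := (rowExact f x (iter (Base.base F) q) x₀ hx₀).2.2 p z
    ((fibDbl_d_apply f x (Base.base F) (p + 1) q z).symm.trans hz)
  exact ⟨w, (fibDbl_d_apply f x (Base.base F) p q w).trans hw⟩

include hx₀ in
theorem fibAug_injective (q : ℕ) : Function.Injective ((fibAug f x (Base.base F)).f q) :=
  (rowExact f x (iter (Base.base F) q) x₀ hx₀).1

include hx₀ in
theorem hex₀F (q : ℕ) (z : ((fibDbl f x (Base.base F)).X 0).X q)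
    (hz : ((fibDbl f x (Base.base F)).d 0 1).f q z = 0) :
    ∃ y, (fibAug f x (Base.base F)).f q y = z :=
  (rowExact f x (iter (Base.base F) q) x₀ hx₀).2.1 z
    ((fibDbl_d_apply f x (Base.base F) 0 q z).symm.trans hz)

/-- The components of a stalk. -/
noncomputable abbrev comps (n : ℤ) (t : (Stf x).obj (TotCx.X (C := CohTop.Ab S) (dblS f F) n)) :
    TotExact.T (TotMap.map₂ (Stf x) (dblS f F)) n :=
  (TotMap.mapXIso (Stf x) (dblS f F) n).hom t

theorem d_comps {n n' : ℤ} (hn : n + 1 = n') (t : (Stf x).obj (TotCx.X (C := CohTop.Ab S) (dblS f F) n)) :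
    TotCx.d (K := TotMap.map₂ (Stf x) (dblS f F)) n n' hn (comps f F x n t) =
      comps f F x n' ((Stf x).map (TotCx.d n n' hn) t) :=
  ConcreteCategory.congr_hom (TotMap.mapXIso_d (Stf x) (dblS f F) hn) t

theorem comps_injective (n : ℤ) : Function.Injective (comps f F x n) :=
  (TotMap.mapXIso (Stf x) (dblS f F) n).addCommGroupIsoToAddEquiv.injective

include hf hs hx₀ in
theorem stalk_exact_succ (k : ℕ) (t : (Stf x).obj ((totN (C := CohTop.Ab S) (dblS f F)).X (k + 1)))
    (ht : (Stf x).map ((totN (C := CohTop.Ab S) (dblS f F)).d (k + 1) (k + 2)) t = 0) :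
    ∃ s, (Stf x).map ((totN (C := CohTop.Ab S) (dblS f F)).d k (k + 1)) s = t := by
  rw [totN_d] at ht ⊢
  let KS := TotMap.map₂ (Stf x) (dblS f F)
  let KF := fibDbl f x (Base.base F)
  let φ := φx f F x
  let n₁ : ℤ := ((k : ℕ) : ℤ)
  let n₂ : ℤ := ((k + 1 : ℕ) : ℤ)
  let n₃ : ℤ := ((k + 1 + 1 : ℕ) : ℤ)
  set xc := comps f F x n₂ t
  have hx : TotCx.d (K := KS) n₂ n₃ (by omega) xc = 0 := by
    refine (d_comps f F x _ t).trans ?_
    exact (congrArg _ ht).trans (map_zero _)
  let y₁ : TotExact.T KF n₂ := TotMap.mapX φ n₂ xc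
  have hy₁ : TotCx.d (K := KF) n₂ n₃ (by omega) y₁ = 0 :=
    (ConcreteCategory.congr_hom (TotMap.mapX_d φ (show n₂ + 1 = n₃ by omega)) xc).trans
      ((congrArg _ hx).trans (map_zero (TotMap.mapX φ n₃).hom))
  obtain ⟨y, hy⟩ : ∃ y : TotExact.T KF n₁, TotCx.d (K := KF) n₁ n₂ (by omega) y = y₁ := by
    obtain ⟨e⟩ := TotExact.nonempty_homology_iso (K := KF) (hexF f F x x₀ hx₀)
      ((cx (Base.base F)).obj (op (fib x (top S)))) (fibAug f x (Base.base F))
      (fibAug_d f x (Base.base F)) (fibAug_injective f F x x₀ hx₀) (hex₀F f F x x₀ hx₀) (k + 1)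
    have : Subsingleton (fib x (top S)).left :=
      ⟨fun a b => Subtype.ext (a.2.trans b.2.symm)⟩
    let A := (cx (Base.base F)).obj (op (fib x (top S)))
    have hA : Subsingleton (A.homology (k + 1) : Type u) := by
      refine ⟨fun a b => ?_⟩
      suffices h : ∀ a : (A.homology (k + 1) : Type u), a = 0 from (h a).trans (h b).symm
      intro a
      obtain ⟨c, rfl⟩ := TotExact.homologyπ_surjective A (k + 1) a
      refine (TotExact.homologyπ_eq_zero_iff A (CochainComplex.prev_nat_succ k) c).2 ?_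
      refine Point.exists_eq_d F (fib x (top S)) k _ ?_
      rw [← ConcreteCategory.comp_apply, HomologicalComplex.iCycles_d]
      rfl
    obtain ⟨c, hc⟩ := TotExact.exists_cycles (TotCx.tot KF)
      (show (ComplexShape.up ℤ).next n₂ = n₃ by rw [CochainComplex.next]; omega) y₁
      ((ConcreteCategory.congr_hom (TotCx.tot_d_eq (K := KF) n₂ n₃ (by omega)) y₁).trans hy₁)
    have h0 : (TotCx.tot KF).homologyπ n₂ c = 0 := by
      apply e.addCommGroupIsoToAddEquiv.injective
      exact Subsingleton.elim _ _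
    obtain ⟨y, hy⟩ := (TotExact.homologyπ_eq_zero_iff (TotCx.tot KF)
      (show (ComplexShape.up ℤ).prev n₂ = n₁ by rw [CochainComplex.prev]; omega) c).1 h0
    exact ⟨y, ((ConcreteCategory.congr_hom (TotCx.tot_d_eq (K := KF) n₁ n₂ (by omega)) y).symm.trans
      hy).trans hc⟩
  obtain ⟨a, b, ha, -⟩ := TotMap.cone_exact φ (colExact f F x hf hs)
    (show (n₁ - 1) + 1 = n₁ by omega) (show n₁ + 1 = n₂ by omega) (show n₂ + 1 = n₃ by omega)
    xc y hx hy
  refine ⟨(TotMap.mapXIso (Stf x) (dblS f F) n₁).inv a, comps_injective f F x n₂ ?_⟩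
  refine (d_comps f F x (show n₁ + 1 = n₂ by omega) _).symm.trans ?_
  refine (congrArg (TotCx.d (K := KS) n₁ n₂ _) ?_).trans ha
  exact ConcreteCategory.congr_hom (TotMap.mapXIso (Stf x) (dblS f F) n₁).inv_hom_id a

theorem Φq_aug (T : Over S) (U : Opens S) (hU : x ∈ U) (a : F.obj.obj (op U))
    (z : (fib x T).left) :
    Φq (Base.base F) x T 0 ((Stf x).map (augS F T) (TopCat.Presheaf.germ F.obj U x hU a))
        ⟨z, trivial⟩ =
      (Groth.Agent.CohAff.ηPre (Base.germsPre F (fib x T))).app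
        (op ((Opens.map (fib x T).hom).obj U)) (Base.secGerms F (fib x T) U a)
        ⟨z, show T.hom z.1 ∈ U from z.2.symm ▸ hU⟩ := by
  have e : (Stf x).map (augS F T) (TopCat.Presheaf.germ F.obj U x hU a) =
      TopCat.Presheaf.germ ((CohTop.push T.hom).obj (GS (Base.base F) 0 T)).obj U x hU
        ((augS F T).hom.app (op U) a) :=
    TopCat.Presheaf.stalkFunctor_map_germ_apply U x hU (augS F T).hom a
  refine (congrArg (fun s => Φq (Base.base F) x T 0 s ⟨z, trivial⟩) e).trans ?_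
  refine (congrFun (Φq_germ (Base.base F) x T 0 U hU _) ⟨z, trivial⟩).trans ?_
  exact Point.ηsec_nat F (fibι x T) U a z _ _

theorem comp_zero_φ (t : (Stf x).obj F) :
    TotCx.π (fibDbl f x (Base.base F)) ((0 : ℕ) : ℤ) 0 0 (by omega)
      (TotMap.mapX (φx f F x) ((0 : ℕ) : ℤ) (comps f F x _ ((Stf x).map (jS f F) t))) =
      Φq (Base.base F) x (N f 0) 0 ((Stf x).map (augS F (N f 0)) t) := by
  refine (TotMap.mapX_apply (φx f F x) 0 0 _ _).trans ?_
  refine congrArg (((φx f F x).f 0).f 0) ?_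
  refine (ConcreteCategory.congr_hom (TotMap.mapXIso_π (Stf x) (dblS f F) ((0 : ℕ) : ℤ) 0 0
    (by omega)) _).trans ?_
  refine (ConcreteCategory.congr_hom (Functor.map_comp (Stf x) (jS f F) _).symm t).trans ?_
  exact congrArg (fun g => (Stf x).map g t) (jS_π f F)

include hx₀ in
theorem stalk_injective_jS (t : (Stf x).obj F) (h : (Stf x).map (jS f F) t = 0) : t = 0 := by
  obtain ⟨U, hU, a, rfl⟩ := TopCat.Presheaf.exists_germ_eq F.obj t
  have h1 := (comp_zero_φ f F x (TopCat.Presheaf.germ F.obj U x hU a))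
  rw [h] at h1
  let pt : (fib x (top S)).left := ⟨x, rfl⟩
  let z : (fib x (N f 0)).left := (sF₀ f x x₀ hx₀).left pt
  have h2 : Φq (Base.base F) x (N f 0) 0
      ((Stf x).map (augS F (N f 0)) (TopCat.Presheaf.germ F.obj U x hU a)) ⟨z, trivial⟩ = 0 := by
    rw [← h1]
    simp only [comps, map_zero]
    rfl
  rw [Φq_aug] at h2
  obtain ⟨W, hzW, i, hW⟩ := exists_zero_near (Base.germsPre F (fib x (N f 0))) z
    ((Opens.map (fib x (N f 0)).hom).obj U) _ _ h2
  have h3 : TopCat.Presheaf.germ F.obj U ((fib x (N f 0)).hom z)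
      (show (N f 0).hom z.1 ∈ U from z.2.symm ▸ hU) a = 0 :=
    congrFun (congrArg Subtype.val hW) ⟨z, hzW⟩
  have e : (fib x (N f 0)).hom z = x := z.2
  exact (Base.tr_germ F e U _ a).symm.trans ((congrArg (Base.tr F e) h3).trans (map_zero _))

include hf hs hx₀ in
theorem stalk_exact_zero (t : (Stf x).obj ((totN (C := CohTop.Ab S) (dblS f F)).X 0))
    (ht : (Stf x).map ((totN (C := CohTop.Ab S) (dblS f F)).d 0 1) t = 0) :
    ∃ s, (Stf x).map (jS f F) s = t := by
  rw [totN_d] at ht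
  let KS := TotMap.map₂ (Stf x) (dblS f F)
  let KF := fibDbl f x (Base.base F)
  let φ := φx f F x
  let n₂ : ℤ := ((0 : ℕ) : ℤ)
  let n₃ : ℤ := ((0 + 1 : ℕ) : ℤ)
  set xc := comps f F x n₂ t
  have hx : TotCx.d (K := KS) n₂ n₃ (by omega) xc = 0 :=
    (d_comps f F x _ t).trans ((congrArg _ ht).trans (map_zero _))
  let y₁ : TotExact.T KF n₂ := TotMap.mapX φ n₂ xc
  have hy₁ : TotCx.d (K := KF) n₂ n₃ (by omega) y₁ = 0 :=
    (ConcreteCategory.congr_hom (TotMap.mapX_d φ (show n₂ + 1 = n₃ by omega)) xc).trans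
      ((congrArg _ hx).trans (map_zero (TotMap.mapX φ n₃).hom))
  let z := TotCx.π KF n₂ 0 0 (by omega) y₁
  have hzh : (KF.d 0 1).f 0 z = 0 := by
    refine (TotExact.d_apply_succ_zero (show n₂ + 1 = n₃ by omega) y₁ 0 (by omega)).symm.trans ?_
    rw [hy₁, map_zero]
  have hzv : (KF.X 0).d 0 1 z = 0 := by
    refine (TotExact.d_apply_zero_succ (show n₂ + 1 = n₃ by omega) y₁ 0 (by omega)).symm.trans ?_
    rw [hy₁, map_zero]
  obtain ⟨c, hc⟩ := hex₀F f F x x₀ hx₀ 0 z hzh
  have hcd : ((cx (Base.base F)).obj (op (fib x (top S)))).d 0 1 c = 0 := by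
    refine fibAug_injective f F x x₀ hx₀ 1 ?_
    rw [map_zero]
    refine (ConcreteCategory.congr_hom ((fibAug f x (Base.base F)).comm 0 1) c).symm.trans ?_
    exact (congrArg _ hc).trans hzv
  have : Subsingleton (fib x (top S)).left :=
    ⟨fun a b => Subtype.ext (a.2.trans b.2.symm)⟩
  obtain ⟨U, hU, a, ha⟩ := Point.exists_eq_ηsec F (fib x (top S)) ⟨x, rfl⟩ c
    ((ConcreteCategory.congr_hom (PCx.cx_d (Base.base F) (op (fib x (top S))) 0) c).symm.trans hcd)
  have hxU : x ∈ U := hU ⟨x, rfl⟩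
  let t' := (Stf x).map (jS f F) (TopCat.Presheaf.germ F.obj U x hxU a)
  have hd' : TotCx.d (K := KS) n₂ n₃ (by omega) (comps f F x n₂ t') = 0 := by
    refine (d_comps f F x _ t').trans ?_
    refine (congrArg _ ((ConcreteCategory.congr_hom (Functor.map_comp (Stf x) (jS f F) _).symm _).trans
      ?_)).trans (map_zero _)
    have e := jS_d f F
    rw [totN_d] at e
    rw [e, Functor.map_zero]
    rfl
  have hz' : TotCx.π KF n₂ 0 0 (by omega) (TotMap.mapX φ n₂ (comps f F x n₂ t')) = z := by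
    refine (comp_zero_φ f F x _).trans (Eq.trans ?_ hc)
    refine funext fun y => ?_
    refine (Φq_aug F x (N f 0) U hxU a y.1).trans ?_
    have e1 := (congrArg (sm (Base.base F) ((fibF x).map (toTop (N f 0))) y.1)
      (ha (((fibF x).map (toTop (N f 0))).left y.1)))
    refine Eq.trans ?_ e1.symm
    exact (Point.ηsec_nat F ((fibF x).map (toTop (N f 0))) U a y.1 _ _).symm
  set D := xc - comps f F x n₂ t'
  have hDφ : TotMap.mapX φ n₂ D = 0 := by
    refine TotExact.ext_apply fun p q h => ?_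
    obtain rfl : p = 0 := by omega
    obtain rfl : q = 0 := by omega
    rw [map_zero, map_sub, map_sub]
    exact sub_eq_zero.2 hz'.symm
  obtain ⟨b, -, hb, -⟩ := TotMap.cone_exact φ (colExact f F x hf hs)
    (show (n₂ - 1 - 1) + 1 = n₂ - 1 by omega) (show (n₂ - 1) + 1 = n₂ by omega)
    (show n₂ + 1 = n₃ by omega) D 0
    (by rw [map_sub, hx, hd', sub_zero]) (by rw [map_zero]; exact hDφ.symm)
  have hb0 : b = 0 := TotExact.ext_apply fun p q h => absurd h (by omega)
  rw [hb0, map_zero] at hb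
  exact ⟨TopCat.Presheaf.germ F.obj U x hxU a, comps_injective f F x n₂ (sub_eq_zero.1 hb.symm).symm⟩

end Stalk

/-- Sections over an open. -/
noncomputable abbrev evS (U : (Opens S)ᵒᵖ) : CohTop.Ab S ⥤ AddCommGrpCat.{u} :=
  sheafToPresheaf _ _ ⋙ (evaluation _ _).obj U

instance (U : (Opens S)ᵒᵖ) : (evS U).Additive where

theorem isFlasque_totX (n : ℤ) :
    TopCat.Sheaf.IsFlasque (TotCx.X (C := CohTop.Ab S) (dblS f F) n) where
  epi {U V} i :=
    AltCx.epi_app_X (C := CohTop.Ab S) (dblS f F)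
      (G := evS U) (G' := evS V) (Functor.whiskerLeft (sheafToPresheaf _ _) ((evaluation _ _).map i))
      n fun p q => (isFlasque_GS (Base.base F) q (N f p)).epi ((Opens.map (N f p).hom).op.map i)

variable (hf : IsProperMap f)
  (hs : ∀ x x' : X, f x = f x' → x ≠ x' →
    ∃ U V : Set X, IsOpen U ∧ IsOpen V ∧ x ∈ U ∧ x' ∈ V ∧ Disjoint U V)
  (hsurj : Function.Surjective f)

include hf hs hsurj in
/-- The resolution. -/
theorem exists_res : ∃ R : Groth.Agent.ModShf.AcyclicRes.Res F, R.K = totN (C := CohTop.Ab S) (dblS f F) := by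
  have hmono : Mono (jS f F) := by
    refine Preadditive.mono_of_cancel_zero _ fun {Z} g hg => ?_
    apply CategoryTheory.Sheaf.hom_ext
    ext1
    funext V
    refine ConcreteCategory.hom_ext _ _ fun s => ?_
    refine TopCat.Presheaf.section_ext F V.unop _ _ fun x hx => ?_
    refine Eq.trans ?_ (map_zero _).symm
    obtain ⟨x₀, hx₀⟩ := hsurj x
    refine stalk_injective_jS f F x x₀ hx₀ _ ?_
    refine (TopCat.Presheaf.stalkFunctor_map_germ_apply V.unop x hx (jS f F).hom _).trans ?_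
    exact (congrArg _ (ConcreteCategory.congr_hom (congrArg (fun φ => φ.hom.app V) hg) s)).trans
      (map_zero (TopCat.Presheaf.germ ((totN (C := CohTop.Ab S) (dblS f F)).X 0).obj V.unop x hx).hom)
  refine ⟨⟨totN (C := CohTop.Ab S) (dblS f F), (CochainComplex.fromSingle₀Equiv _ F).symm ⟨jS f F, jS_d f F⟩,
    Fibre.quasiIso_of_exact _ _ (jS_d f F) hmono ?_ fun n => ?_⟩, rfl⟩
  · refine (TopCat.Sheaf.exact_iff_stalkFunctor_map_exact (C := AddCommGrpCat.{u}) _).2 fun x => ?_
    obtain ⟨x₀, hx₀⟩ := hsurj x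
    rw [ShortComplex.ab_exact_iff]
    exact stalk_exact_zero f F x hf hs x₀ hx₀
  · refine (TopCat.Sheaf.exact_iff_stalkFunctor_map_exact (C := AddCommGrpCat.{u}) _).2 fun x => ?_
    obtain ⟨x₀, hx₀⟩ := hsurj x
    rw [ShortComplex.ab_exact_iff]
    exact stalk_exact_succ f F x hf hs x₀ hx₀ n

end Groth.Agent.CohTop.Proper.Resolution
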