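import Groth.Agent.CohTop.Proper.Extend
import Groth.Agent.CohTop.Descent.Base
import Groth.Agent.CohTop.Descent.Compute

/-!
# Soft sheaves

On a compact Hausdorff space flasque sheaves and inverse images of flasque sheaves are soft, and
soft sheaves are acyclic for global sections.
-/

universe u

open CategoryTheory CategoryTheory.Limits Opposite TopologicalSpace

namespace Groth.Agent.CohTop.Proper.Soft

open Groth.Agent.CohTop.Proper.Extend Groth.Agent.ModShf.AcyclicRes

variable {Z : TopCat.{u}}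

/-- Families of germs on closed sets extend to global sections. -/
def IsSoft (G : CohTop.Ab Z) : Prop :=
  ∀ (C : Set Z), IsClosed C → ∀ b : ∀ z : Z, St G z, IsGermsOn G (𝟙 Z) C b →
    ∃ a : G.obj.obj (op ⊤), ∀ z ∈ C, gm G a z trivial = b z

theorem isSoft_of_flasque [CompactSpace Z] [T2Space Z] (G : CohTop.Ab Z)
    [TopCat.Sheaf.IsFlasque G] : IsSoft G := by
  intro C hC b hb
  have hs : Sep (𝟙 Z) := fun z z' h => by
    obtain ⟨O, O', hO, hO', hz, hz', hd⟩ := t2_separation h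
    exact ⟨⟨O, hO⟩, ⟨O', hO'⟩, hz, hz', disjoint_iff_inf_le.2 fun x hx => hd.le_bot hx⟩
  obtain ⟨U, hU, a, ha⟩ := extend_near G hs C hC b hb
  obtain ⟨a', ha'⟩ := (AddCommGrpCat.epi_iff_surjective (G.obj.map (homOfLE (le_top : U ≤ ⊤)).op)).1
    inferInstance a
  exact ⟨a', fun z hz => ((gm_rs G le_top a' z (hU z hz)).symm.trans
    (congrArg (fun t => gm G t z (hU z hz)) ha')).trans (ha z hz)⟩

variable {S : ShortComplex (CohTop.Ab Z)} (hS : S.ShortExact)

/-- The map on stalks. -/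
noncomputable abbrev stk {F G : CohTop.Ab Z} (φ : F ⟶ G) (z : Z) : St F z ⟶ St G z :=
  (TopCat.Presheaf.stalkFunctor AddCommGrpCat.{u} z).map φ.hom

theorem gm_app {F G : CohTop.Ab Z} (φ : F ⟶ G) {U : Opens Z} (a : F.obj.obj (op U)) (z : Z)
    (hz : z ∈ U) : stk φ z (gm F a z hz) = gm G (φ.hom.app (op U) a) z hz :=
  TopCat.Presheaf.stalkFunctor_map_germ_apply U z hz φ.hom a

theorem g_f_stalk (z : Z) (t : St S.X₁ z) : stk S.g z (stk S.f z t) = 0 := by
  refine ((ConcreteCategory.comp_apply _ _ _).symm.trans ?_)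
  have : stk S.f z ≫ stk S.g z = 0 := by
    refine ((TopCat.Presheaf.stalkFunctor AddCommGrpCat.{u} z).map_comp S.f.hom S.g.hom).symm.trans ?_
    exact (congrArg (fun φ : S.X₁ ⟶ S.X₃ => (TopCat.Presheaf.stalkFunctor AddCommGrpCat.{u} z).map φ.hom)
      S.zero).trans (Functor.map_zero _ _ _)
  exact ConcreteCategory.congr_hom this t

include hS in
theorem stalk_exact (z : Z) (t : St S.X₂ z) (h : stk S.g z t = 0) : ∃ t', stk S.f z t' = t := by
  have := (TopCat.Sheaf.exact_iff_stalkFunctor_map_exact (C := AddCommGrpCat.{u}) S).1 hS.exact z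
  exact (ShortComplex.ab_exact_iff _).1 this t h

include hS in
theorem stalk_injective (z : Z) : Function.Injective (stk S.f z) :=
  TopCat.Presheaf.stalkFunctor_map_injective_of_app_injective
    (fun U => Groth.Agent.CohAff.sec_f_injective hS U) z

include hS in
/-- Families of germs lift through an epimorphism with soft kernel. -/
theorem lift_germs [CompactSpace Z] [T2Space Z] (h₁ : IsSoft S.X₁) {C : Set Z} (hC : IsClosed C)
    (c : ∀ z : Z, St S.X₃ z) (hc : IsGermsOn S.X₃ (𝟙 Z) C c) :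
    ∃ b : ∀ z : Z, St S.X₂ z, IsGermsOn S.X₂ (𝟙 Z) C b ∧ ∀ z ∈ C, stk S.g z (b z) = c z := by
  classical
  let P : Set Z → Prop := fun T => ∃ (D : Set Z) (_ : IsClosed D) (_ : T ⊆ D)
    (b : ∀ z : Z, St S.X₂ z),
      IsGermsOn S.X₂ (𝟙 Z) (C ∩ D) b ∧ ∀ z ∈ C ∩ D, stk S.g z (b z) = c z
  have hP : P C := by
    refine hC.isCompact.induction_on (p := P)
      ⟨∅, isClosed_empty, le_rfl, fun _ => 0, fun z hz => hz.2.elim, fun z hz => hz.2.elim⟩
      (fun s t hst ⟨D, hD, h, r⟩ => ⟨D, hD, hst.trans h, r⟩) ?_ ?_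
    · rintro s t ⟨D, hD, hsD, b, hb, hbc⟩ ⟨D', hD', htD', b', hb', hbc'⟩
      let K := C ∩ D ∩ D'
      have hdiff : ∀ z ∈ K, ∃ α, stk S.f z α = b z - b' z := fun z hz =>
        stalk_exact hS z _ (by rw [map_sub, hbc z hz.1, hbc' z ⟨hz.1.1, hz.2⟩, sub_self])
      let α : ∀ z : Z, St S.X₁ z := fun z => if hz : z ∈ K then (hdiff z hz).choose else 0
      have hα : ∀ z ∈ K, stk S.f z (α z) = b z - b' z := fun z hz => by
        simp only [α, dif_pos hz]; exact (hdiff z hz).choose_spec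
      have hαg : IsGermsOn S.X₁ (𝟙 Z) K α := by
        intro z hz
        obtain ⟨W, hzW, a, ha⟩ := hb z hz.1
        obtain ⟨W', hzW', a', ha'⟩ := hb' z ⟨hz.1.1, hz.2⟩
        let d : S.X₂.obj.obj (op (W ⊓ W')) := rs S.X₂ inf_le_left a - rs S.X₂ inf_le_right a'
        have hd : ∀ z' ∈ K, ∀ h : z' ∈ W ⊓ W', gm S.X₂ d z' h = b z' - b' z' := fun z' hz' h => by
          refine (map_sub _ _ _).trans ?_
          exact congrArg₂ (· - ·) ((gm_rs S.X₂ _ a z' h).trans (ha z' hz'.1 h.1))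
            ((gm_rs S.X₂ _ a' z' h).trans (ha' z' ⟨hz'.1.1, hz'.2⟩ h.2))
        have h0 : gm S.X₃ (S.g.hom.app _ d) z ⟨hzW, hzW'⟩ = 0 := by
          have := (gm_app S.g d z ⟨hzW, hzW'⟩).symm
          refine this.trans ?_
          rw [hd z hz ⟨hzW, hzW'⟩, map_sub, hbc z hz.1, hbc' z ⟨hz.1.1, hz.2⟩, sub_self]
        obtain ⟨V, hV, hV₂, hzV, eV⟩ := exists_eq_near S.X₃ (S.g.hom.app _ d)
          (0 : S.X₃.obj.obj (op (W ⊓ W'))) z ⟨hzW, hzW'⟩ ⟨hzW, hzW'⟩
          (h0.trans (map_zero _).symm)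
        have hgV : S.g.hom.app (op V) (rs S.X₂ hV d) = 0 :=
          ((ConcreteCategory.congr_hom (S.g.hom.naturality (homOfLE hV).op) d)).trans
            (eV.trans (map_zero _))
        obtain ⟨e, he⟩ := Groth.Agent.CohAff.sec_exact hS hgV
        refine ⟨V, hzV, e, fun z' hz' h => stalk_injective hS z' ?_⟩
        exact (gm_app S.f e z' h).trans ((congrArg (fun t => gm S.X₂ t z' h) he).trans
          ((gm_rs S.X₂ hV d z' h).trans ((hd z' hz' (hV h)).trans (hα z' hz').symm)))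
      obtain ⟨A, hA⟩ := h₁ K ((hC.inter hD).inter hD') α hαg
      let A₂ := S.f.hom.app (op ⊤) A
      let β : ∀ z : Z, St S.X₂ z := fun z => if z ∈ D then b z else b' z + gm S.X₂ A₂ z trivial
      have hβ' : ∀ z ∈ C ∩ D', β z = b' z + gm S.X₂ A₂ z trivial := fun z hz => by
        by_cases hzD : z ∈ D
        · simp only [β, if_pos hzD]
          refine (add_sub_cancel (b' z) (b z)).symm.trans ?_
          rw [← hα z ⟨⟨hz.1, hzD⟩, hz.2⟩, ← hA z ⟨⟨hz.1, hzD⟩, hz.2⟩]
          exact congrArg _ (gm_app S.f A z trivial)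
        · simp only [β, if_neg hzD]
      refine ⟨D ∪ D', hD.union hD', Set.union_subset_union hsD htD', β, ?_, ?_⟩
      · rw [Set.inter_union_distrib_left]
        refine isGermsOn_union S.X₂ (Topology.IsInducing.id) (hC.inter hD) (hC.inter hD')
          (isGermsOn_congr S.X₂ hb fun z hz => (if_pos (show z ∈ D from hz.2)).symm) ?_
        intro z hz
        obtain ⟨W', hzW', a', ha'⟩ := hb' z hz
        refine ⟨W', hzW', a' + rs S.X₂ le_top A₂, fun z' hz' h => ?_⟩
        refine (map_add _ _ _).trans (Eq.trans ?_ (hβ' z' hz').symm)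
        exact congrArg₂ (· + ·) (ha' z' hz' h) (gm_rs S.X₂ le_top A₂ z' h)
      · intro z hz
        rcases hz with ⟨hzC, hzD | hzD⟩
        · simp only [β, if_pos hzD]; exact hbc z ⟨hzC, hzD⟩
        · rw [hβ' z ⟨hzC, hzD⟩, map_add, hbc' z ⟨hzC, hzD⟩, ← gm_app S.f A z trivial, g_f_stalk,
            add_zero]
    · intro z hz
      obtain ⟨W, hzW, a, ha⟩ := hc z hz
      obtain ⟨V, hV, hzV, t, ht⟩ := Groth.Agent.CohAff.sec_locally_surjective hS a hzW
      obtain ⟨D, hD, hDc, hDV⟩ := exists_mem_nhds_isClosed_subset (V.2.mem_nhds hzV)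
      let b : ∀ z : Z, St S.X₂ z := fun z' => if h : z' ∈ V then gm S.X₂ t z' h else 0
      refine ⟨D, mem_nhdsWithin_of_mem_nhds hD, D, hDc, le_rfl, b,
        fun z' hz' => ⟨V, hDV hz'.2, t, fun z'' _ h => ?_⟩, fun z' hz' => ?_⟩
      · simp only [b]
        exact (dif_pos (show z'' ∈ V from h)).symm
      · simp only [b, dif_pos (show z' ∈ V from hDV hz'.2)]
        exact (gm_app S.g t z' (hDV hz'.2)).trans ((congrArg (fun s => gm S.X₃ s z' (hDV hz'.2)) ht).trans
          ((gm_rs S.X₃ hV a z' (hDV hz'.2)).trans (ha z' hz'.1 _)))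
  obtain ⟨D, -, hCD, b, hb, hbc⟩ := hP
  exact ⟨b, fun z hz => by
    obtain ⟨W, hzW, a, ha⟩ := hb z ⟨hz, hCD hz⟩
    exact ⟨W, hzW, a, fun z' hz' h => ha z' ⟨hz', hCD hz'⟩ h⟩, fun z hz => hbc z ⟨hz, hCD hz⟩⟩

theorem goodClass_soft [CompactSpace Z] [T2Space Z] :
    GoodClass (Descent.Compute.Γt Z) (fun F => IsSoft F) where
  of_injective F hF := by
    have : Injective (C := CohTop.Ab Z) F := hF
    have := Flasque.isFlasque_of_injective F
    exact isSoft_of_flasque F
  coker S hS h₁ h₂ := by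
    intro C hC c hc
    obtain ⟨b, hb, hbc⟩ := lift_germs hS h₁ hC c hc
    obtain ⟨B, hB⟩ := h₂ C hC b hb
    exact ⟨S.g.hom.app (op ⊤) B, fun z hz =>
      (gm_app S.g B z trivial).symm.trans ((congrArg (stk S.g z) (hB z hz)).trans (hbc z hz))⟩
  epi S hS h₁ := by
    rw [AddCommGrpCat.epi_iff_surjective]
    intro c
    obtain ⟨b, hb, hbc⟩ := lift_germs hS h₁ isClosed_univ (fun z => gm S.X₃ c z trivial)
      (fun z _ => ⟨⊤, trivial, c, fun _ _ _ => rfl⟩)
    have hid : ∀ z : Z, z ∈ (Set.univ : Set Z) := fun _ => trivial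
    have hb' : ∀ z ∈ (Set.univ : Set Z), ∃ (W : Opens Z) (_ : z ∈ W) (a : S.X₂.obj.obj (op W)),
        ∀ z' ∈ (Set.univ : Set Z), ∀ h : z' ∈ W, gm S.X₂ a z' h = b z' := hb
    choose W hW a ha using fun z : Z => hb' z (hid z)
    obtain ⟨B, hB, -⟩ := TopCat.Sheaf.existsUnique_gluing' S.X₂ W ⊤ (fun z => homOfLE le_top)
      (fun z _ => Opens.mem_iSup.2 ⟨z, hW z⟩) a (fun z z' => by
        refine TopCat.Presheaf.section_ext S.X₂ _ _ _ fun p hp => ?_
        exact ((gm_rs S.X₂ _ (a z) p hp).trans (ha z p trivial hp.1)).trans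
          ((gm_rs S.X₂ _ (a z') p hp).trans (ha z' p trivial hp.2)).symm)
    refine ⟨B, TopCat.Presheaf.section_ext S.X₃ _ _ _ fun p hp => ?_⟩
    refine (gm_app S.g B p trivial).symm.trans ((congrArg (stk S.g p) ?_).trans (hbc p trivial))
    exact (gm_rs S.X₂ le_top B p (hW p)).symm.trans
      ((congrArg (fun t => gm S.X₂ t p (hW p)) (hB p)).trans (ha p p trivial (hW p)))

section Pull

open Groth.Agent.CohTop.Descent.Base (σ σ_germ σ_injective σ_surjective unit)

variable {X : TopCat.{u}} (i : Z ⟶ X) (G : CohTop.Ab X)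

/-- The comparison of stalks of an inverse image. -/
noncomputable abbrev σi (z : Z) : St G (i z) ⟶ St ((CohTop.pull i).obj G) z := σ G (Over.mk i) z

/-- The unit on sections. -/
noncomputable abbrev uni (U : Opens X) :
    G.obj.obj (op U) ⟶ ((CohTop.pull i).obj G).obj.obj (op ((Opens.map i).obj U)) :=
  unit G (Over.mk i) U

theorem σi_gm {U : Opens X} (a : G.obj.obj (op U)) (z : Z) (hz : i z ∈ U) :
    σi i G z (gm G a (i z) hz) = gm ((CohTop.pull i).obj G) (uni i G U a) z hz :=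
  ConcreteCategory.congr_hom (σ_germ G (Over.mk i) z U hz) a

theorem σi_bijective (z : Z) : Function.Bijective (σi i G z) :=
  ⟨σ_injective G (Over.mk i) z, σ_surjective G (Over.mk i) z⟩

/-- The germs of a section of the inverse image, in the stalks of the sheaf. -/
noncomputable def back (z : Z) (t : St ((CohTop.pull i).obj G) z) : St G (i z) :=
  (AddEquiv.ofBijective (σi i G z).hom (σi_bijective i G z)).symm t

theorem σi_back (z : Z) (t : St ((CohTop.pull i).obj G) z) : σi i G z (back i G z t) = t :=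
  (AddEquiv.ofBijective (σi i G z).hom (σi_bijective i G z)).apply_symm_apply t

theorem isGermsOn_back (hind : Topology.IsInducing i) {C : Set Z} {b : ∀ z : Z, St ((CohTop.pull i).obj G) z}
    (hb : IsGermsOn ((CohTop.pull i).obj G) (𝟙 Z) C b) :
    IsGermsOn G i C fun z => back i G z (b z) := by
  intro z hz
  obtain ⟨V, hzV, t, ht⟩ := hb z hz
  obtain ⟨U, hzU, a, ha⟩ := TopCat.Presheaf.exists_germ_eq (C := AddCommGrpCat.{u}) (X := X)
    G.obj (back i G z (b z))
  have : gm ((CohTop.pull i).obj G) (uni i G U a) z hzU = gm ((CohTop.pull i).obj G) t z hzV :=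
    (σi_gm i G a z hzU).symm.trans (((congrArg (σi i G z) ha).trans (σi_back i G z (b z))).trans
      (ht z hz hzV).symm)
  obtain ⟨W, hW, hW', hzW, e⟩ := exists_eq_near ((CohTop.pull i).obj G) _ t z hzU hzV this
  obtain ⟨W₀, hW₀, e₀⟩ := hind.isOpen_iff.1 W.2
  refine ⟨⟨W₀, hW₀⟩ ⊓ U, ⟨(e₀.symm ▸ hzW : z ∈ i ⁻¹' W₀), hzU⟩, rs G inf_le_right a,
    fun z' hz' h => ?_⟩
  have hz'W : z' ∈ W := (Set.ext_iff.1 e₀ z').1 h.1
  refine (gm_rs G inf_le_right a (i z') h).trans ((σi_bijective i G z').1 ?_)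
  rw [σi_back]
  refine (σi_gm i G a z' h.2).trans ?_
  refine (gm_rs _ hW _ z' hz'W).symm.trans ?_
  rw [e]
  exact (gm_rs _ hW' t z' hz'W).trans (ht z' hz' (hW' hz'W))

variable [CompactSpace Z]

/-- Inverse images of flasque sheaves are soft. -/
theorem isSoft_pull (hind : Topology.IsInducing i) (hs : Sep i) [TopCat.Sheaf.IsFlasque G] :
    IsSoft ((CohTop.pull i).obj G) := by
  intro C hC b hb
  obtain ⟨U, hU, a, ha⟩ := extend_near G hs C hC _ (isGermsOn_back i G hind hb)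
  obtain ⟨a', ha'⟩ := (AddCommGrpCat.epi_iff_surjective (G.obj.map (homOfLE (le_top : U ≤ ⊤)).op)).1
    inferInstance a
  refine ⟨uni i G ⊤ a', fun z hz => ?_⟩
  refine (σi_gm i G a' z trivial).symm.trans ((congrArg (σi i G z) ?_).trans (σi_back i G z (b z)))
  exact ((gm_rs G le_top a' (i z) (hU z hz)).symm.trans
    (congrArg (fun t => gm G t (i z) (hU z hz)) ha')).trans (ha z hz)

/-- Global sections of an inverse image come from a neighbourhood. -/
theorem exists_section_near (hind : Topology.IsInducing i) (hs : Sep i)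
    (t : ((CohTop.pull i).obj G).obj.obj (op ⊤)) :
    ∃ (U : Opens X) (hU : ∀ z, i z ∈ U) (a : G.obj.obj (op U)),
      rs _ (fun z _ => hU z : (⊤ : Opens Z) ≤ (Opens.map i).obj U) (uni i G U a) = t := by
  obtain ⟨U, hU, a, ha⟩ := extend_near G hs Set.univ isClosed_univ _
    (isGermsOn_back i G hind (C := Set.univ) (b := fun z => gm _ t z trivial)
      fun z _ => ⟨⊤, trivial, t, fun _ _ _ => rfl⟩)
  refine ⟨U, fun z => hU z trivial, a, TopCat.Presheaf.section_ext _ _ _ _ fun z hz => ?_⟩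
  exact ((gm_rs _ _ _ z hz).trans (σi_gm i G a z (hU z trivial)).symm).trans
    ((congrArg (σi i G z) (ha z trivial)).trans (σi_back i G z _))

omit [CompactSpace Z] in
/-- Sections with the same inverse image agree near the image. -/
theorem exists_eq_near_of_uni {U U' : Opens X} (hU : ∀ z, i z ∈ U) (hU' : ∀ z, i z ∈ U')
    (a : G.obj.obj (op U)) (a' : G.obj.obj (op U'))
    (h : rs _ (fun z _ => hU z : (⊤ : Opens Z) ≤ (Opens.map i).obj U) (uni i G U a) =
      rs _ (fun z _ => hU' z : (⊤ : Opens Z) ≤ (Opens.map i).obj U') (uni i G U' a')) :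
    ∃ (W : Opens X) (hW : W ≤ U) (hW' : W ≤ U'), (∀ z, i z ∈ W) ∧ rs G hW a = rs G hW' a' := by
  obtain ⟨W, hW, hW', hK, e⟩ := exists_eq_near_set G a a' (Set.range i)
    (by rintro _ ⟨z, rfl⟩; exact hU z) (by rintro _ ⟨z, rfl⟩; exact hU' z)
    (by
      rintro _ ⟨z, rfl⟩
      refine (σi_bijective i G z).1 ?_
      refine (σi_gm i G a z (hU z)).trans (Eq.trans ?_ (σi_gm i G a' z (hU' z)).symm)
      have hz : z ∈ (⊤ : Opens Z) := trivial
      have h' := congrArg (fun t => gm ((CohTop.pull i).obj G) t z hz) h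
      exact ((gm_rs _ _ _ z hz).symm.trans h').trans (gm_rs _ _ _ z hz))
  exact ⟨W, hW, hW', fun z => hK ⟨z, rfl⟩, e⟩

end Pull

end Groth.Agent.CohTop.Proper.Soft
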